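import Groth.Agent.L12.ExtSh.AffData
import Groth.Agent.L15.Ref.ExtPow

/-!
# Exterior powers of quasi-coherent modules exist
-/

set_option autoImplicit false
set_option linter.style.haveILetI false
set_option backward.isDefEq.respectTransparency false
set_option backward.isDefEq.respectTransparency.types false

universe u

open CategoryTheory CategoryTheory.Limits AlgebraicGeometry TopologicalSpace Opposite
open Groth.L18.Frame (rs ro rs_rs ro_ro rs_smul rs_self ro_self)

noncomputable section

namespace Groth.L12.ExtSh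

variable {X : Scheme.{u}} (E : X.Modules) (i : ℕ)

/-- The exterior power of the sections over an affine open. -/
abbrev W (U : X.affineOpens) : Type u := ↥(⋀[Γ(X, U.1)]^i (E.val.obj (op U.1)))

/-- The decomposable elements. -/
abbrev wι (U : X.affineOpens) (v : Fin i → Γ(E, U.1)) : W E i U :=
  exteriorPower.ιMulti Γ(X, U.1) i (M := E.val.obj (op U.1)) v

theorem W_induction {U : X.affineOpens} {P : W E i U → Prop} (h0 : P 0)
    (hadd : ∀ a b, P a → P b → P (a + b))
    (hι : ∀ (r : Γ(X, U.1)) (v : Fin i → Γ(E, U.1)), P (r • wι E i U v)) (z : W E i U) : P z := by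
  have hz : z ∈ Submodule.span Γ(X, U.1) (Set.range (exteriorPower.ιMulti Γ(X, U.1) i (M := E.val.obj (op U.1)))) :=
    (exteriorPower.ιMulti_span _ i _).ge trivial
  suffices h : ∀ r : Γ(X, U.1), P (r • z) by simpa using h 1
  induction hz using Submodule.span_induction with
  | mem y hy =>
    obtain ⟨v, rfl⟩ := hy
    exact fun r => hι r v
  | zero => intro r; rw [smul_zero]; exact h0
  | add a b _ _ ha hb => intro r; rw [smul_add]; exact hadd _ _ (ha r) (hb r)
  | smul c a _ ha => intro r; rw [smul_smul]; exact ha _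

theorem W_hom_ext {U : X.affineOpens} {A : Type*} [AddCommGroup A] {f g : W E i U →+ A}
    (h : ∀ (r : Γ(X, U.1)) (v : Fin i → Γ(E, U.1)), f (r • wι E i U v) = g (r • wι E i U v)) : f = g :=
  AddMonoidHom.ext fun z => W_induction E i (P := fun z => f z = g z) (by rw [map_zero, map_zero])
    (fun a b ha hb => by rw [map_add, map_add, ha, hb]) h z

/-- The module structure by restriction of scalars. -/
abbrev resMod {U V : X.affineOpens} (h : V.1 ≤ U.1) : Module Γ(X, U.1) (W E i V) :=
  Module.compHom _ (X.presheaf.map (homOfLE h).op).hom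

/-- The restriction map of exterior powers, linearly. -/
def wresLin {U V : X.affineOpens} (h : V.1 ≤ U.1) :
    letI := resMod E i h; W E i U →ₗ[Γ(X, U.1)] W E i V :=
  letI := resMod E i h
  (exteriorPower.alternatingMapLinearEquiv
    ({ toFun := fun v => wι E i V fun k => rs E h (v k)
       map_update_add' := by
        intro _ v k x y
        have e : ∀ z, (fun j => rs E h (Function.update v k z j)) =
            Function.update (fun j => rs E h (v j)) k (rs E h z) :=
          fun z => funext fun j => Function.apply_update (fun _ => rs E h) v k z j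
        simp only [e, show rs E h (x + y) = rs E h x + rs E h y from map_add _ _ _]
        exact (exteriorPower.ιMulti Γ(X, V.1) i (M := E.val.obj (op V.1))).map_update_add _ _ _ _
       map_update_smul' := by
        intro _ v k a x
        have e : ∀ z, (fun j => rs E h (Function.update v k z j)) =
            Function.update (fun j => rs E h (v j)) k (rs E h z) :=
          fun z => funext fun j => Function.apply_update (fun _ => rs E h) v k z j
        simp only [e, show rs E h (a • x) = ro h a • rs E h x from rs_smul E h a x]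
        exact (exteriorPower.ιMulti Γ(X, V.1) i (M := E.val.obj (op V.1))).map_update_smul _ _ _ _
       map_eq_zero_of_eq' := fun v a b hab hne =>
        (exteriorPower.ιMulti Γ(X, V.1) i (M := E.val.obj (op V.1))).map_eq_zero_of_eq _ (congrArg (rs E h) hab) hne } :
      (E.val.obj (op U.1)) [⋀^Fin i]→ₗ[Γ(X, U.1)] W E i V))

/-- The restriction map of exterior powers. -/
def wres {U V : X.affineOpens} (h : V.1 ≤ U.1) : W E i U →+ W E i V :=
  letI := resMod E i h
  (wresLin E i h).toAddMonoidHom

theorem wres_ι {U V : X.affineOpens} (h : V.1 ≤ U.1) (v : Fin i → Γ(E, U.1)) :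
    wres E i h (wι E i U v) = wι E i V fun k => rs E h (v k) := by
  let _ : Module Γ(X, U.1) (W E i V) := resMod E i h
  exact exteriorPower.alternatingMapLinearEquiv_apply_ιMulti _ v

theorem wres_smul {U V : X.affineOpens} (h : V.1 ≤ U.1) (r : Γ(X, U.1)) (z : W E i U) :
    wres E i h (r • z) = ro h r • wres E i h z := by
  let _ : Module Γ(X, U.1) (W E i V) := resMod E i h
  exact (wresLin E i h).map_smul r z

theorem wres_self {U : X.affineOpens} (h : U.1 ≤ U.1) (z : W E i U) : wres E i h z = z :=
  DFunLike.congr_fun (W_hom_ext E i (f := wres E i h) (g := AddMonoidHom.id _) fun r v => by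
    show wres E i h (r • _) = r • _
    rw [wres_smul, wres_ι, ro_self]
    simp only [rs_self]) z

theorem wres_wres {U V V' : X.affineOpens} (h : V.1 ≤ U.1) (h' : V'.1 ≤ V.1) (z : W E i U) :
    wres E i h' (wres E i h z) = wres E i (h'.trans h) z :=
  DFunLike.congr_fun (W_hom_ext E i (f := (wres E i h').comp (wres E i h)) (g := wres E i (h'.trans h)) fun r v => by
    show wres E i h' (wres E i h (r • _)) = wres E i _ (r • _)
    rw [wres_smul, wres_smul, wres_ι, wres_ι, wres_smul, wres_ι, ro_ro]
    simp only [rs_rs]) z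

theorem wres_loc [Coh.IsQCoh E] (U : X.affineOpens) (g : Γ(X, U.1)) :
    (∀ s : W E i U, wres E i (bo_le U g) s = 0 → ∃ k : ℕ, g ^ k • s = 0) ∧
    ∀ t : W E i (bo U g), ∃ (k : ℕ) (s : W E i U),
      wres E i (bo_le U g) s = ro (bo_le U g) (g ^ k) • t := by
  letI : Algebra Γ(X, U.1) Γ(X, (bo U g).1) := (X.presheaf.map (homOfLE (bo_le U g)).op).hom.toAlgebra
  haveI : IsLocalization.Away g Γ(X, (bo U g).1) := IsAffineOpen.isLocalization_basicOpen U.2 g
  letI := Module.compHom Γ(E, (bo U g).1) (X.presheaf.map (homOfLE (bo_le U g)).op).hom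
  haveI : IsScalarTower Γ(X, U.1) Γ(X, (bo U g).1) Γ(E, (bo U g).1) :=
    IsScalarTower.of_algebraMap_smul fun _ _ => rfl
  haveI : IsLocalizedModule (Submonoid.powers g)
      ({ toFun := fun s => rs E (bo_le U g) s
         map_add' := fun _ _ => map_add _ _ _
         map_smul' := fun b s => rs_smul E (bo_le U g) b s } : Γ(E, U.1) →ₗ[Γ(X, U.1)] Γ(E, (bo U g).1)) :=
    Groth.L20.ModStalk.isLocalizedModule_res (M := E) U.2 g
  obtain ⟨Ψ, hΨ, hsurj, hker⟩ := Groth.L15.Ref.exterior_localized (A := Γ(X, U.1)) (B := Γ(X, (bo U g).1))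
    (M := Γ(E, U.1)) (M' := Γ(E, (bo U g).1)) (Submonoid.powers g)
    ({ toFun := fun s => rs E (bo_le U g) s
       map_add' := fun _ _ => map_add _ _ _
       map_smul' := fun b s => rs_smul E (bo_le U g) b s } : Γ(E, U.1) →ₗ[Γ(X, U.1)] Γ(E, (bo U g).1)) i
  have hc : ∀ z : W E i U, wres E i (bo_le U g) z = Ψ z := DFunLike.congr_fun
    (W_hom_ext E i (f := wres E i (bo_le U g)) (g := Ψ.toAddMonoidHom) fun r v => by
      show wres E i (bo_le U g) (r • _) = Ψ (r • _)
      rw [wres_smul, wres_ι]
      refine Eq.trans ?_ (Ψ.map_smul r _).symm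
      refine Eq.trans ?_ (congrArg (r • ·) (hΨ v)).symm
      exact algebraMap_smul (M := ↥(⋀[Γ(X, (bo U g).1)]^i Γ(E, (bo U g).1))) Γ(X, (bo U g).1) r _)
  refine ⟨fun s hs => ?_, fun t => ?_⟩
  · obtain ⟨⟨_, k, rfl⟩, hk⟩ := hker s ((hc s).symm.trans hs)
    exact ⟨k, hk⟩
  · obtain ⟨x, ⟨_, k, rfl⟩, hx⟩ := hsurj t
    exact ⟨k, x, (hc x).trans hx.symm⟩

variable [Coh.IsQCoh E]

/-- The affine data of the exterior power. -/
def extData : AffData X where
  obj := W E i
  acg _ := inferInstance
  mdl _ := inferInstance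
  res := wres E i
  res_smul := wres_smul E i
  res_self := wres_self E i
  res_res := wres_wres E i
  loc_inj U g := (wres_loc E i U g).1
  loc_surj U g := (wres_loc E i U g).2

/-- The `i`-th exterior power of a quasi-coherent module. -/
def wedgeMod : X.Modules := (extData E i).glue

instance : Coh.IsQCoh (wedgeMod E i) := inferInstanceAs (Coh.IsQCoh (extData E i).glue)

/-- Its sections on affine opens. -/
def wedgeEquiv (U : X.affineOpens) :
    ((wedgeMod E i).val.obj (op U.1)) ≃ₗ[Γ(X, U.1)] ↥(⋀[Γ(X, U.1)]^i (E.val.obj (op U.1))) :=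
  (extData E i).eqv U

theorem isExtPow_wedgeMod : ExtPow.IsExtPow i E (wedgeMod E i) :=
  ⟨fun U => wedgeEquiv E i U, fun U V h e =>
    ((extData E i).rs_eqv_symm h _).trans (congrArg ((extData E i).eqv V).symm (wres_ι E i h e))⟩

theorem exists_isExtPow : ∃ L : X.Modules, ExtPow.IsExtPow i E L := ⟨_, isExtPow_wedgeMod E i⟩

end Groth.L12.ExtSh
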