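import Groth.Agent.L12.ExtSh.Exterior
import Groth.Agent.L04.KSh.Hom

/-!
# Exterior powers are unique up to isomorphism
-/

set_option autoImplicit false
set_option linter.style.haveILetI false
set_option backward.isDefEq.respectTransparency false
set_option backward.isDefEq.respectTransparency.types false

universe u

open CategoryTheory CategoryTheory.Limits AlgebraicGeometry TopologicalSpace Opposite
open Groth.L18.Frame (rs ro rs_rs ro_ro rs_smul rs_self ro_self)

noncomputable section

namespace Groth.L12.ExtSh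

variable {X : Scheme.{u}}

/-- An isomorphism from compatible bijections on affine opens. -/
theorem exists_iso_affine {M N : X.Modules} (φ : ∀ U : X.affineOpens, Γ(M, U.1) ≃ₗ[Γ(X, U.1)] Γ(N, U.1))
    (hnat : ∀ (U V : X.affineOpens) (h : V.1 ≤ U.1) (s : Γ(M, U.1)), φ V (rs M h s) = rs N h (φ U s)) :
    ∃ e : M ≅ N, ∀ (U : X.affineOpens) (s : Γ(M, U.1)), e.hom.app U.1 s = φ U s := by
  obtain ⟨a, ha⟩ := Groth.L04.KSh.exists_hom_affine (fun U => (φ U).toLinearMap) hnat
  obtain ⟨b, hb⟩ := Groth.L04.KSh.exists_hom_affine (fun U => (φ U).symm.toLinearMap) fun U V h s => by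
    refine (φ V).injective ?_
    show φ V ((φ V).symm _) = φ V (rs M h ((φ U).symm s))
    rw [LinearEquiv.apply_symm_apply, hnat, LinearEquiv.apply_symm_apply]
  refine ⟨⟨a, b, Groth.L04.KSh.hom_ext_affine fun U s => ?_, Groth.L04.KSh.hom_ext_affine fun U s => ?_⟩, ha⟩
  · show b.app U.1 (a.app U.1 s) = s
    rw [ha, hb]
    exact (φ U).symm_apply_apply s
  · show a.app U.1 (b.app U.1 s) = s
    rw [hb, ha]
    exact (φ U).apply_symm_apply s

variable {E : X.Modules} {i : ℕ} {L : X.Modules}
  (φ : ∀ U : X.affineOpens,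
    (L.val.obj (op U.1)) ≃ₗ[Γ(X, U.1)] ↥(⋀[Γ(X, U.1)]^i (E.val.obj (op U.1))))
  (hφ : ∀ (U V : X.affineOpens) (h : V.1 ≤ U.1) (e : Fin i → E.val.obj (op U.1)),
      L.val.map (homOfLE h).op ((φ U).symm (exteriorPower.ιMulti _ i e)) =
        (φ V).symm (exteriorPower.ιMulti _ i (fun j => E.val.map (homOfLE h).op (e j))))

include hφ in
/-- Compatibility on all elements. -/
theorem rs_extPow_symm {U V : X.affineOpens} (h : V.1 ≤ U.1) (z : W E i U) :
    rs L h ((φ U).symm z) = (φ V).symm (wres E i h z) := by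
  induction z using W_induction E i with
  | h0 =>
    rw [map_zero, map_zero, map_zero]
    exact map_zero (L.presheaf.map (homOfLE h).op).hom
  | hadd a b ha hb =>
    rw [map_add, map_add, map_add]
    exact (map_add (L.presheaf.map (homOfLE h).op).hom _ _).trans (congrArg₂ (· + ·) ha hb)
  | hι r v =>
    rw [wres_smul, wres_ι]
    refine (congrArg (rs L h) ((φ U).symm.map_smul r _)).trans ?_
    refine (rs_smul L h r _).trans ?_
    refine Eq.trans ?_ ((φ V).symm.map_smul _ _).symm
    exact congrArg (ro h r • ·) (hφ U V h v)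

include hφ in
theorem wres_extPow {U V : X.affineOpens} (h : V.1 ≤ U.1) (s : Γ(L, U.1)) :
    φ V (rs L h s) = wres E i h (φ U s) := by
  refine (φ V).symm.injective ?_
  rw [LinearEquiv.symm_apply_apply]
  exact ((congrArg (rs L h) ((φ U).symm_apply_apply s)).symm).trans (rs_extPow_symm φ hφ h _)

omit φ in
/-- Two exterior powers are isomorphic. -/
theorem nonempty_iso_of_isExtPow {L' : X.Modules} (hL : ExtPow.IsExtPow i E L) (hL' : ExtPow.IsExtPow i E L') :
    Nonempty (L ≅ L') := by
  obtain ⟨φ, hφ⟩ := hL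
  obtain ⟨ψ, hψ⟩ := hL'
  obtain ⟨e, -⟩ := exists_iso_affine (M := L) (N := L') (fun U => (φ U).trans (ψ U).symm) fun U V h s => by
    show (ψ V).symm (φ V (rs L h s)) = rs L' h ((ψ U).symm (φ U s))
    rw [rs_extPow_symm ψ hψ, wres_extPow φ hφ]
  exact ⟨e⟩

omit φ in
/-- Being an exterior power is invariant under isomorphism. -/
theorem isExtPow_of_iso {L' : X.Modules} (e : L ≅ L') (hL : ExtPow.IsExtPow i E L) :
    ExtPow.IsExtPow i E L' := by
  obtain ⟨φ, hφ⟩ := hL
  let ε : ∀ U : X.Opens, Γ(L', U) ≃ₗ[Γ(X, U)] Γ(L, U) := fun U =>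
    LinearEquiv.ofLinearMap (Groth.L04.KSh.appₗ e.inv U) (Groth.L04.KSh.appₗ e.hom U)
      (LinearMap.ext fun s => by
        show e.inv.app U (e.hom.app U s) = s
        exact congr($(congrArg (fun k => Scheme.Modules.Hom.app k U) e.hom_inv_id) s))
      (LinearMap.ext fun s => by
        show e.hom.app U (e.inv.app U s) = s
        exact congr($(congrArg (fun k => Scheme.Modules.Hom.app k U) e.inv_hom_id) s))
  refine ⟨fun U => (ε U.1).trans (φ U), fun U V h v => ?_⟩
  show rs L' h (e.hom.app U.1 ((φ U).symm _)) = e.hom.app V.1 ((φ V).symm _)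
  rw [← hφ U V h v]
  exact (PresheafOfModules.naturality_apply e.hom.val (homOfLE h).op _).symm

end Groth.L12.ExtSh
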