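import Groth.Agent.L19.ProjBdl.TensFrame

/-!
# Tensor products of bases
-/

set_option autoImplicit false
set_option backward.isDefEq.respectTransparency false
set_option backward.isDefEq.respectTransparency.types false

universe u

open CategoryTheory MonoidalCategory AlgebraicGeometry TopologicalSpace Opposite TensorProduct

noncomputable section

namespace Groth.L12.ExtSh

open Groth.L18.Frame (rs ro rs_rs rs_self rs_smul ro_ro ro_self)
open Groth.L18.GenLoc (tens tens_rs tens_smul_left tens_smul_right)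
open Groth.L00.Tensor (pre)
open Groth.L19.ProjBdl (IsBasisOn lc tens_sum_left)

variable {X : Scheme.{u}} {M N : X.Modules} {W : X.Opens} {m : ℕ} {c : Fin m → Γ(N, W)}

/-- Presheaf level bijectivity. -/
theorem bijective_tmul_family (hc : IsBasisOn N W c) (V : X.Opens) (h : V ≤ W) :
    Function.Bijective fun w : Fin m → Γ(M, V) =>
      ∑ j, (show (pre M).obj (op V) from w j) ⊗ₜ[X.sheaf.obj.obj (op V)]
        (show (pre N).obj (op V) from rs N h (c j)) := by
  let R := X.sheaf.obj.obj (op V)
  let l : (Fin m → R) →ₗ[R] (pre N).obj (op V) :=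
    Fintype.linearCombination R (fun j => (show (pre N).obj (op V) from rs N h (c j)))
  have hl : Function.Bijective l := by
    have he : (show (Fin m → Γ(X, V)) → Γ(N, V) from fun r => l r) = lc N c h :=
      funext fun r => by
        have e := Fintype.linearCombination_apply R
          (fun j => (show (pre N).obj (op V) from rs N h (c j))) r
        exact e
    exact show Function.Bijective (show (Fin m → Γ(X, V)) → Γ(N, V) from fun r => l r) from he ▸ hc V h
  let φ : (Fin m → (pre M).obj (op V)) ≃ₗ[R] TensorProduct R ((pre M).obj (op V)) ((pre N).obj (op V)) :=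
    (TensorProduct.piScalarRight R R _ (Fin m)).symm.trans
      (TensorProduct.congr (LinearEquiv.refl _ _) (LinearEquiv.ofBijective l hl))
  have hφ : (fun w : Fin m → Γ(M, V) => ∑ j, (show (pre M).obj (op V) from w j) ⊗ₜ[X.sheaf.obj.obj (op V)]
        (show (pre N).obj (op V) from rs N h (c j))) =
      fun w : Fin m → Γ(M, V) => φ (show Fin m → (pre M).obj (op V) from w) := by
    funext w
    have hw : (show Fin m → (pre M).obj (op V) from w) =
        ∑ j, Pi.single j (show (pre M).obj (op V) from w j) := (Finset.univ_sum_single _).symm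
    rw [hw, map_sum]
    refine Finset.sum_congr rfl fun j _ => ?_
    simp [φ, l, R]
  rw [hφ]
  exact φ.bijective

theorem tens_sum_rs {V V' : X.Opens} (h : V ≤ W) (i : V' ≤ V) (w : Fin m → Γ(M, V)) :
    rs (CohB1.tensorMod M N) i (∑ j, tens M N V (w j) (rs N h (c j))) =
      ∑ j, tens M N V' (rs M i (w j)) (rs N (i.trans h) (c j)) := by
  refine (map_sum ((CohB1.tensorMod M N).presheaf.map (homOfLE i).op).hom _ _).trans (Finset.sum_congr rfl fun j _ => ?_)
  show rs (CohB1.tensorMod M N) i _ = _
  rw [tens_rs, rs_rs]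

/-- Tensoring with a basis. -/
theorem bijective_tens_family (hc : IsBasisOn N W c) {V : X.Opens} (h : V ≤ W) :
    Function.Bijective fun w : Fin m → Γ(M, V) => ∑ j, tens M N V (w j) (rs N h (c j)) := by
  let P := pre M ⊗ pre N
  let η := Groth.L00.Tensor.unit P
  have hW := ((Opens.grothendieckTopology X).W_iff_isLocallyBijective _).1 (Groth.L00.Tensor.Wp_unit P)
  let OM : TopCat.Sheaf Ab.{u} X.toTopCat := ⟨M.presheaf, M.isSheaf⟩
  let T : ∀ (V : X.Opens), V ≤ W → (Fin m → Γ(M, V)) → P.obj (op V) := fun V h w =>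
    ∑ j, (show (pre M).obj (op V) from w j) ⊗ₜ[X.sheaf.obj.obj (op V)] (show (pre N).obj (op V) from rs N h (c j))
  have hg : ∀ {V V' : X.Opens} (h : V ≤ W) (i : V' ⟶ V) (w : Fin m → Γ(M, V)),
      Groth.L00.Tensor.rs P i.op (T V h w) = T V' (i.le.trans h) fun j => rs M i.le (w j) := fun {V V'} h i w => by
    refine (map_sum (AddMonoidHom.mk' (fun x => Groth.L00.Tensor.rs P i.op x) fun a b => map_add _ a b) _ _).trans
      (Finset.sum_congr rfl fun j _ => ?_)
    show (show (pre M).obj (op V') from rs M i.le (w j)) ⊗ₜ[X.sheaf.obj.obj (op V')]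
      (show (pre N).obj (op V') from rs N i.le (rs N h (c j))) = _
    rw [rs_rs]
  have hη : ∀ (V : X.Opens) (h : V ≤ W) (w : Fin m → Γ(M, V)),
      η.app (op V) (T V h w) = ∑ j, tens M N V (w j) (rs N h (c j)) := fun V h w =>
    map_sum (η.app (op V)).hom _ _
  have hinj : ∀ (V : X.Opens) (h : V ≤ W) (w w' : Fin m → Γ(M, V)),
      (∑ j, tens M N V (w j) (rs N h (c j))) = ∑ j, tens M N V (w' j) (rs N h (c j)) → w = w' := by
    intro V h w w' e
    haveI := hW.1
    obtain ⟨S, hS, hS'⟩ := Groth.L00.Tensor.local_eq (J := Opens.grothendieckTopology X) η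
      (T V h w) (T V h w') ((hη V h w).trans (e.trans (hη V h w').symm))
    choose V' i hi hxV' using fun x : V => hS x.1 x.2
    refine funext fun j => OM.eq_of_locally_eq' V' V (fun x => i x)
      (fun x hx => Opens.mem_iSup.mpr ⟨⟨x, hx⟩, hxV' ⟨x, hx⟩⟩) (w j) (w' j) fun x => ?_
    have := hS' (i x) (hi x)
    rw [hg h (i x), hg h (i x)] at this
    exact congrFun ((bijective_tmul_family (M := M) hc (V' x) ((i x).le.trans h)).1 this) j
  refine ⟨hinj V h, fun y => ?_⟩
  haveI := hW.2
  obtain ⟨S, hS, hS'⟩ := Groth.L00.Tensor.exists_local (J := Opens.grothendieckTopology X) η (U := op V) y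
  choose V' i hi hxV' using fun x : V => hS x.1 x.2
  choose q hq using fun x : V => hS' (i x) (hi x)
  choose w hw using fun x : V => (bijective_tmul_family (M := M) hc (V' x) ((i x).le.trans h)).2 (q x)
  have hcov : V ≤ ⨆ x, V' x := fun x hx => Opens.mem_iSup.mpr ⟨⟨x, hx⟩, hxV' ⟨x, hx⟩⟩
  have hwy : ∀ x, (∑ j, tens M N (V' x) (w x j) (rs N ((i x).le.trans h) (c j))) =
      rs (CohB1.tensorMod M N) (i x).le y :=
    fun x => (hη (V' x) _ (w x)).symm.trans ((congrArg (η.app (op (V' x))) (hw x)).trans (hq x))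
  have hag : ∀ x z, (fun j => rs M (inf_le_left : V' x ⊓ V' z ≤ V' x) (w x j)) =
      fun j => rs M (inf_le_right : V' x ⊓ V' z ≤ V' z) (w z j) := fun x z => by
    refine hinj _ ((inf_le_left : V' x ⊓ V' z ≤ _).trans ((i x).le.trans h)) _ _ ?_
    have e1 := congrArg (rs (CohB1.tensorMod M N) (inf_le_left : V' x ⊓ V' z ≤ V' x)) (hwy x)
    have e2 := congrArg (rs (CohB1.tensorMod M N) (inf_le_right : V' x ⊓ V' z ≤ V' z)) (hwy z)
    rw [tens_sum_rs, rs_rs] at e1 e2
    exact e1.trans e2.symm
  choose s hs using fun j => (OM.existsUnique_gluing' V' V (fun x => i x) hcov (fun x => w x j)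
    fun x z => congrFun (hag x z) j).exists
  refine ⟨s, ?_⟩
  let OT : TopCat.Sheaf Ab.{u} X.toTopCat := ⟨(CohB1.tensorMod M N).presheaf, (CohB1.tensorMod M N).isSheaf⟩
  refine OT.eq_of_locally_eq' V' V (fun x => i x) hcov _ y fun x => ?_
  show rs (CohB1.tensorMod M N) (i x).le (∑ j, tens M N V (s j) (rs N h (c j))) = rs (CohB1.tensorMod M N) (i x).le y
  rw [tens_sum_rs, ← hwy x]
  exact Finset.sum_congr rfl fun j _ => by rw [show rs M (i x).le (s j) = w x j from hs j x]

/-- Products of two bases form a basis of the tensor product. -/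
theorem isBasisOn_tens {n : ℕ} {b : Fin n → Γ(M, W)} (hb : IsBasisOn M W b) (hc : IsBasisOn N W c) :
    IsBasisOn (CohB1.tensorMod M N) W fun a =>
      tens M N W (b (finProdFinEquiv.symm a).1) (c (finProdFinEquiv.symm a).2) := by
  intro V h
  let ρ : (Fin (n * m) → Γ(X, V)) ≃ (Fin m → Fin n → Γ(X, V)) :=
    ((Equiv.arrowCongr finProdFinEquiv.symm (Equiv.refl _)).trans (Equiv.curry _ _ _)).trans (Equiv.piComm _)
  have h1 := (bijective_tens_family (M := M) hc h).comp
    ((Function.Bijective.piMap fun _ : Fin m => hb V h).comp ρ.bijective)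
  convert h1 using 1
  funext r
  simp only [Function.comp_apply, Pi.map_apply]
  show ∑ a, r a • rs (CohB1.tensorMod M N) h (tens M N W (b (finProdFinEquiv.symm a).1) (c (finProdFinEquiv.symm a).2)) =
    ∑ j, tens M N V (∑ i, r (finProdFinEquiv (i, j)) • rs M h (b i)) (rs N h (c j))
  rw [← (finProdFinEquiv (m := n) (n := m)).sum_comp, Fintype.sum_prod_type, Finset.sum_comm]
  refine Finset.sum_congr rfl fun j _ => ?_
  rw [tens_sum_left]
  refine Finset.sum_congr rfl fun i _ => ?_
  rw [Equiv.symm_apply_apply, tens_rs, tens_smul_left]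

end Groth.L12.ExtSh
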