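import Groth.Agent.L03.SurfAdj.DetIso
import Groth.Agent.L16.HomSh.FreeFrames
import Groth.Agent.L04.KSh.Twist

/-!
# Sections of short exact sequences of bundles
-/

set_option autoImplicit false
set_option linter.style.haveILetI false
set_option backward.isDefEq.respectTransparency false
set_option backward.isDefEq.respectTransparency.types false

universe u

open CategoryTheory CategoryTheory.Limits AlgebraicGeometry TopologicalSpace Opposite
open Groth.L18.Frame (rs ro rs_rs ro_ro rs_smul rs_self ro_self)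
open Groth.L19.ProjBdl (IsBasisOn lc rs_lc)

noncomputable section

namespace Groth.L12.ExtSh

variable {X : Scheme.{u}} {S : ShortComplex X.Modules}

theorem app_injective (hS : S.ShortExact) (V : X.Opens) : Function.Injective (S.f.app V) :=
  haveI := hS.mono_f
  Groth.L04.KSh.app_injective_of_mono S.f V

theorem exists_app_eq (hS : S.ShortExact) {V : X.Opens} (b : Γ(S.X₂, V)) (hb : S.g.app V b = 0) :
    ∃ a : Γ(S.X₁, V), S.f.app V a = b := by
  have hloc : ∀ y : V, ∃ (O : X.Opens) (hO : O ≤ V) (a : Γ(S.X₁, O)),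
      y.1 ∈ O ∧ S.f.app O a = rs S.X₂ hO b := by
    rintro ⟨y, hy⟩
    have h0 : Groth.L21.RR.st S.g y (S.X₂.presheaf.germ V y hy b) = 0 := by
      rw [Groth.L21.RR.st_germ, hb, map_zero]
    obtain ⟨m, hm⟩ := ((Groth.L03.SurfAdj.exact_st hS y).1 _).1 h0
    obtain ⟨O', hy', a, rfl⟩ := Groth.L00.StalkTensor.exists_germ (Groth.L00.Tensor.pre S.X₁) y m
    have hm' : S.X₂.presheaf.germ O' y hy' (S.f.app O' (show Γ(S.X₁, O') from a)) =
        S.X₂.presheaf.germ V y hy b := (Groth.L21.RR.st_germ S.f hy' _).symm.trans hm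
    obtain ⟨O, hO, i1, i2, h12⟩ := S.X₂.presheaf.germ_eq y hy' hy _ _ hm'
    refine ⟨O, i2.le, rs S.X₁ i1.le (show Γ(S.X₁, O') from a), hO, ?_⟩
    refine Eq.trans ?_ h12
    exact congr($((Scheme.Modules.Hom.mapPresheaf S.f).naturality i1.op) (show Γ(S.X₁, O') from a))
  choose O hO a hyO ha using hloc
  have hnat : ∀ {U U' : X.Opens} (h : U' ≤ U) (z : Γ(S.X₁, U)),
      S.f.app U' (rs S.X₁ h z) = rs S.X₂ h (S.f.app U z) := fun h z =>
    PresheafOfModules.naturality_apply S.f.val (homOfLE h).op z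
  obtain ⟨t, ht⟩ := Groth.L16.HomSh.exists_glue S.X₁ O hO
    (fun y hy => Opens.mem_iSup.mpr ⟨⟨y, hy⟩, hyO ⟨y, hy⟩⟩) a fun i j => app_injective hS _ (by
      rw [hnat, hnat, ha, ha, rs_rs, rs_rs])
  refine ⟨t, Groth.L16.HomSh.ext_cover S.X₂ O hO
    (fun y hy => Opens.mem_iSup.mpr ⟨⟨y, hy⟩, hyO ⟨y, hy⟩⟩) fun y => ?_⟩
  rw [← hnat, ht, ha]

theorem g_f_app (S : ShortComplex X.Modules) (V : X.Opens) (a : Γ(S.X₁, V)) : S.g.app V (S.f.app V a) = 0 :=
  congr($(congrArg (fun k => Scheme.Modules.Hom.app k V) S.zero) a)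

/-- Bases of the ends with lifts of the quotient basis, near a point. -/
theorem exists_split_bases (hS : S.ShortExact) (h₁ : FlatMod.IsFinLocFree S.X₁) (h₃ : FlatMod.IsFinLocFree S.X₃)
    (x : X) (W : X.Opens) (hx : x ∈ W) :
    ∃ (U : X.affineOpens) (p q : ℕ) (a : Fin p → Γ(S.X₁, U.1)) (σ : Fin q → Γ(S.X₂, U.1)),
      x ∈ U.1 ∧ U.1 ≤ W ∧ IsBasisOn S.X₁ U.1 a ∧ IsBasisOn S.X₃ U.1 fun k => S.g.app U.1 (σ k) := by
  obtain ⟨V₁, p, a, -, hx₁, hV₁, ha⟩ := Groth.L19.ProjBdl.exists_basisOn h₁ x W hx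
  obtain ⟨V₃, q, c, -, hx₃, hV₃, hc⟩ := Groth.L19.ProjBdl.exists_basisOn h₃ x V₁ hx₁
  choose V hV σ hxV hσ using fun k : Fin q => Groth.L03.SurfAdj.exists_lift hS (c k) hx₃
  obtain ⟨_, ⟨U, hU, rfl⟩, hxU, hle⟩ := X.isBasis_affineOpens.exists_subset_of_mem_open
    (show x ∈ (⨅ k, (V k : Set X)) ∩ (V₃ : Set X) from ⟨Set.mem_iInter.2 hxV, hx₃⟩)
    ((isOpen_iInter_of_finite fun k => (V k).2).inter V₃.2)
  have hU3 : U ≤ V₃ := fun y hy => (hle hy).2
  have hUk : ∀ k, U ≤ V k := fun k y hy => Set.mem_iInter.1 (hle hy).1 k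
  refine ⟨⟨U, hU⟩, p, q, fun k => rs S.X₁ (hU3.trans hV₃) (a k), fun k => rs S.X₂ (hUk k) (σ k), hxU,
    hU3.trans (hV₃.trans hV₁), ha.mono _, ?_⟩
  have he : (fun k => S.g.app U (rs S.X₂ (hUk k) (σ k))) = fun k => rs S.X₃ hU3 (c k) := funext fun k => by
    refine (PresheafOfModules.naturality_apply S.g.val (homOfLE (hUk k)).op (σ k)).trans ?_
    refine (congrArg (rs S.X₃ (hUk k)) (hσ k)).trans ?_
    rw [rs_rs]
  show IsBasisOn S.X₃ U fun k => S.g.app U (rs S.X₂ (hUk k) (σ k))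
  rw [he]
  exact hc.mono hU3

/-- A basis of the ends gives a basis of the middle. -/
theorem isBasisOn_append (hS : S.ShortExact) {U : X.Opens} {p q : ℕ} {a : Fin p → Γ(S.X₁, U)}
    {σ : Fin q → Γ(S.X₂, U)} (ha : IsBasisOn S.X₁ U a) (hσ : IsBasisOn S.X₃ U fun k => S.g.app U (σ k)) :
    IsBasisOn S.X₂ U (Fin.append (fun k => S.f.app U (a k)) σ) := by
  intro V h
  have hlc : ∀ c, lc S.X₂ (Fin.append (fun k => S.f.app U (a k)) σ) h c =
      S.f.app V (lc S.X₁ a h fun k => c (Fin.castAdd q k)) + lc S.X₂ σ h fun k => c (Fin.natAdd p k) := by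
    intro c
    show ∑ k, c k • rs S.X₂ h _ = _
    rw [Fin.sum_univ_add]
    refine congrArg₂ (· + ·) ((map_sum (S.f.app V).hom _ _).trans
      (Finset.sum_congr rfl fun k _ => ?_)).symm (Finset.sum_congr rfl fun k _ => by rw [Fin.append_right])
    rw [Fin.append_left]
    refine (Scheme.Modules.Hom.app_smul S.f _ _).trans ?_
    exact congrArg (c (Fin.castAdd q k) • ·) (PresheafOfModules.naturality_apply S.f.val (homOfLE h).op (a k))
  have hg : ∀ c : Fin q → Γ(X, V),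
      S.g.app V (lc S.X₂ σ h c) = lc S.X₃ (fun k => S.g.app U (σ k)) h c := fun c => by
    refine (map_sum (S.g.app V).hom _ _).trans (Finset.sum_congr rfl fun k _ => ?_)
    refine (Scheme.Modules.Hom.app_smul S.g _ _).trans ?_
    exact congrArg (c k • ·) (PresheafOfModules.naturality_apply S.g.val (homOfLE h).op (σ k))
  refine ⟨fun c c' e => ?_, fun b => ?_⟩
  · rw [hlc, hlc] at e
    have e₃ := congrArg (S.g.app V) e
    rw [map_add, map_add, g_f_app, g_f_app, zero_add, zero_add, hg, hg] at e₃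
    have h3 := (hσ V h).1 e₃
    rw [h3, add_left_inj] at e
    have h1 := (ha V h).1 (app_injective hS V e)
    funext k
    exact Fin.addCases (fun k => congrFun h1 k) (fun k => congrFun h3 k) k
  · obtain ⟨c₃, hc₃⟩ := (hσ V h).2 (S.g.app V b)
    obtain ⟨y, hy⟩ := exists_app_eq hS (b - lc S.X₂ σ h c₃) (by rw [map_sub, hg, hc₃, sub_self])
    obtain ⟨c₁, hc₁⟩ := (ha V h).2 y
    refine ⟨Fin.append c₁ c₃, ?_⟩
    simp only [hlc, Fin.append_left, Fin.append_right]
    rw [hc₁, hy, sub_add_cancel]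

/-- Extensions of bundles are bundles. -/
theorem isFinLocFree_middle (hS : S.ShortExact) (h₁ : FlatMod.IsFinLocFree S.X₁) (h₃ : FlatMod.IsFinLocFree S.X₃) :
    FlatMod.IsFinLocFree S.X₂ := by
  refine Groth.L16.HomSh.isFinLocFree_of_bases fun x => ?_
  obtain ⟨U, p, q, a, σ, hxU, -, ha, hσ⟩ := exists_split_bases hS h₁ h₃ x ⊤ trivial
  exact ⟨U.1, p + q, _, hxU, isBasisOn_append hS ha hσ⟩

end Groth.L12.ExtSh
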