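import Groth.Agent.L12.ExtSh.Unique
import Groth.Agent.L18.Grass.PlkExtPow
import Groth.Agent.L16.HomSh.FreeFrames

/-!
# Exterior powers of finite locally free modules
-/

set_option autoImplicit false
set_option linter.style.haveILetI false
set_option backward.isDefEq.respectTransparency false
set_option backward.isDefEq.respectTransparency.types false

universe u

open CategoryTheory CategoryTheory.Limits AlgebraicGeometry TopologicalSpace Opposite Module
open Groth.L18.Frame (rs ro rs_rs ro_ro rs_smul rs_self ro_self)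
open Groth.L19.ProjBdl (IsBasisOn lc)
open Groth.L18.PlkAlg (K)

noncomputable section

namespace Groth.L12.ExtSh

variable {X : Scheme.{u}} {E L : X.Modules} {i : ℕ}

section Basis

variable (φ : ∀ U : X.affineOpens,
    (L.val.obj (op U.1)) ≃ₗ[Γ(X, U.1)] ↥(⋀[Γ(X, U.1)]^i (E.val.obj (op U.1))))
  (hφ : ∀ (U V : X.affineOpens) (h : V.1 ≤ U.1) (e : Fin i → E.val.obj (op U.1)),
      L.val.map (homOfLE h).op ((φ U).symm (exteriorPower.ιMulti _ i e)) =
        (φ V).symm (exteriorPower.ιMulti _ i (fun j => E.val.map (homOfLE h).op (e j))))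

include hφ in
/-- Wedges of a basis form a basis of the exterior power. -/
theorem isBasisOn_extPow {n : ℕ} {U : X.affineOpens} {b : Fin n → Γ(E, U.1)} (hb : IsBasisOn E U.1 b)
    (ks : Fin (n.choose i) ≃ Set.powersetCard (Fin n) i) :
    IsBasisOn L U.1 fun k => (φ U).symm (exteriorPower.ιMulti Γ(X, U.1) i (M := E.val.obj (op U.1)) (b ∘ K ks k)) :=
  Groth.L18.PlkExtPow.isBasisOn_of_affine fun A hA hle => by
    obtain ⟨B, hB⟩ := Groth.L18.PlkAlg.exists_moduleBasis (hb.mono hle)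
    let BL : Basis (Fin (n.choose i)) Γ(X, A) Γ(L, A) :=
      ((B.exteriorPower i).reindex ks.symm).map (φ ⟨A, hA⟩).symm
    have hBL : ∀ k, BL k = rs L hle ((φ U).symm (exteriorPower.ιMulti Γ(X, U.1) i (M := E.val.obj (op U.1)) (b ∘ K ks k))) := fun k => by
      refine Eq.trans ?_ (hφ U ⟨A, hA⟩ hle _).symm
      rw [show BL k = (φ ⟨A, hA⟩).symm (B.exteriorPower i (ks k)) by
        show (((B.exteriorPower i).reindex ks.symm).map (φ ⟨A, hA⟩).symm) k = _
        rw [Basis.map_apply, Basis.reindex_apply, Equiv.symm_symm]]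
      refine congrArg (φ ⟨A, hA⟩).symm ?_
      rw [exteriorPower.basis_apply]
      exact congrArg (exteriorPower.ιMulti Γ(X, A) i (M := Γ(E, A))) (funext fun j => hB (K ks k j))
    have h := BL.equivFun.symm.bijective
    convert h using 1
    funext c
    rw [Basis.equivFun_symm_apply]
    exact Finset.sum_congr rfl fun k _ => congrArg (c k • ·) (hBL k).symm

end Basis

theorem isFinLocFree_of_isExtPow (hE : FlatMod.IsFinLocFree E) (hL : ExtPow.IsExtPow i E L) :
    FlatMod.IsFinLocFree L := by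
  obtain ⟨φ, hφ⟩ := hL
  refine Groth.L16.HomSh.isFinLocFree_of_bases fun x => ?_
  obtain ⟨V, n, b, hV, hxV, -, hb⟩ := Groth.L19.ProjBdl.exists_basisOn hE x ⊤ trivial
  obtain ⟨ks⟩ := Groth.L18.PlkAlg.exists_enum i n
  exact ⟨V, n.choose i, _, hxV, isBasisOn_extPow φ hφ (U := ⟨V, hV⟩) hb ks⟩

theorem isFinLocFreeOfRank_of_isExtPow {n : ℕ} (hE : FlatMod.IsFinLocFreeOfRank n E)
    (hL : ExtPow.IsExtPow i E L) : FlatMod.IsFinLocFreeOfRank (n.choose i) L := fun x => by
  obtain ⟨φ, hφ⟩ := hL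
  obtain ⟨U, hxU, b, hb⟩ := Groth.L18.GrassGeom.exists_freeBasis hE x
  obtain ⟨ks⟩ := Groth.L18.PlkAlg.exists_enum i n
  obtain ⟨e⟩ := Groth.L20.ResDescent.nonempty_iso_free (le_of_eq (U.1.ι_preimage_self).symm)
    ((isBasisOn_extPow φ hφ hb ks).pullback U.1.ι)
  exact ⟨U.1, hxU, ⟨(Scheme.Modules.restrictFunctorIsoPullback U.1.ι).app L ≪≫ e⟩⟩

theorem isFinLocFree_wedgeMod [Coh.IsQCoh E] (hE : FlatMod.IsFinLocFree E) (i : ℕ) :
    FlatMod.IsFinLocFree (wedgeMod E i) :=
  isFinLocFree_of_isExtPow hE (isExtPow_wedgeMod E i)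

end Groth.L12.ExtSh
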