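import Groth.Agent.L22.WedgePair.Sheaf
import Groth.Agent.L04.KSh.Hom

/-!
# Gluing morphisms given on a basis of good affine opens
-/

set_option autoImplicit false
set_option backward.isDefEq.respectTransparency false
set_option backward.isDefEq.respectTransparency.types false

universe u

open CategoryTheory CategoryTheory.Limits AlgebraicGeometry TopologicalSpace Opposite
open Groth.L18.Frame (rs ro rs_rs ro_ro rs_smul rs_self ro_self)

noncomputable section

namespace Groth.L12.ExtSh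

variable {X : Scheme.{u}} {M N : X.Modules} {G : X.affineOpens → Prop}

/-- Sections agreeing on good opens agree. -/
theorem ext_good (hG : ∀ (x : X) (W : X.Opens), x ∈ W → ∃ U, G U ∧ x ∈ U.1 ∧ U.1 ≤ W) (N : X.Modules)
    {W : X.Opens} {s t : Γ(N, W)}
    (h : ∀ (V : X.affineOpens), G V → ∀ hV : V.1 ≤ W, rs N hV s = rs N hV t) : s = t :=
  Groth.L16.HomSh.ext_cover N (fun V : {V : X.affineOpens // G V ∧ V.1 ≤ W} => V.1.1) (fun V => V.2.2)
    (fun x hx => by
      obtain ⟨U, hU, hxU, hUW⟩ := hG x W hx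
      exact Opens.mem_iSup.mpr ⟨⟨U, hU, hUW⟩, hxU⟩)
    fun V => h V.1 V.2.1 V.2.2

/-- A morphism from compatible linear maps on good opens. -/
theorem exists_hom_of_good (hG : ∀ (x : X) (W : X.Opens), x ∈ W → ∃ U, G U ∧ x ∈ U.1 ∧ U.1 ≤ W)
    (φ : ∀ U : X.affineOpens, G U → Γ(M, U.1) →ₗ[Γ(X, U.1)] Γ(N, U.1))
    (hnat : ∀ (U V : X.affineOpens) (hU : G U) (hV : G V) (h : V.1 ≤ U.1) (s : Γ(M, U.1)),
      φ V hV (rs M h s) = rs N h (φ U hU s)) :
    ∃ Φ : M ⟶ N, ∀ (U : X.affineOpens) (hU : G U) (s : Γ(M, U.1)), Φ.app U.1 s = φ U hU s := by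
  have hex : ∀ (U : X.affineOpens) (s : Γ(M, U.1)), ∃ t : Γ(N, U.1), ∀ (V : X.affineOpens) (hV : G V)
      (h : V.1 ≤ U.1), rs N h t = φ V hV (rs M h s) := by
    intro U s
    obtain ⟨t, ht⟩ := Groth.L16.HomSh.exists_glue N (fun V : {V : X.affineOpens // G V ∧ V.1 ≤ U.1} => V.1.1)
      (fun V => V.2.2)
      (fun x hx => by
        obtain ⟨W, hW, hxW, hWU⟩ := hG x U.1 hx
        exact Opens.mem_iSup.mpr ⟨⟨W, hW, hWU⟩, hxW⟩)
      (fun V => φ V.1 V.2.1 (rs M V.2.2 s)) fun A B => ext_good hG N fun V hV hVle => by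
        rw [rs_rs, rs_rs, ← hnat A.1 V A.2.1 hV, ← hnat B.1 V B.2.1 hV, rs_rs, rs_rs]
    exact ⟨t, fun V hV h => ht ⟨V, hV, h⟩⟩
  choose t ht using hex
  let ψ : ∀ U : X.affineOpens, Γ(M, U.1) →ₗ[Γ(X, U.1)] Γ(N, U.1) := fun U =>
    { toFun := t U
      map_add' := fun a b => ext_good hG N fun V hV h => by
        rw [show rs N h (t U a + t U b) = rs N h (t U a) + rs N h (t U b) from map_add _ _ _, ht U _ V hV h,
          ht U _ V hV h, ht U _ V hV h, show rs M h (a + b) = rs M h a + rs M h b from map_add _ _ _, map_add]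
      map_smul' := fun r a => ext_good hG N fun V hV h => by
        rw [ht U _ V hV h, rs_smul, map_smul, RingHom.id_apply, rs_smul, ht U _ V hV h] }
  obtain ⟨Φ, hΦ⟩ := Groth.L04.KSh.exists_hom_affine ψ fun U V h s => ext_good hG N fun W hW hWV => by
    show rs N hWV (t V (rs M h s)) = rs N hWV (rs N h (t U s))
    rw [rs_rs, ht V _ W hW hWV, ht U _ W hW (hWV.trans h), rs_rs]
  refine ⟨Φ, fun U hU s => (hΦ U s).trans ?_⟩
  show t U s = φ U hU s
  have := ht U s U hU le_rfl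
  rwa [rs_self, rs_self] at this

/-- An isomorphism from compatible bijections on good opens. -/
theorem exists_iso_of_good (hG : ∀ (x : X) (W : X.Opens), x ∈ W → ∃ U, G U ∧ x ∈ U.1 ∧ U.1 ≤ W)
    (φ : ∀ U : X.affineOpens, G U → Γ(M, U.1) ≃ₗ[Γ(X, U.1)] Γ(N, U.1))
    (hnat : ∀ (U V : X.affineOpens) (hU : G U) (hV : G V) (h : V.1 ≤ U.1) (s : Γ(M, U.1)),
      φ V hV (rs M h s) = rs N h (φ U hU s)) :
    ∃ e : M ≅ N, ∀ (U : X.affineOpens) (hU : G U) (s : Γ(M, U.1)), e.hom.app U.1 s = φ U hU s := by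
  obtain ⟨a, ha⟩ := exists_hom_of_good hG (fun U hU => (φ U hU).toLinearMap) hnat
  obtain ⟨b, hb⟩ := exists_hom_of_good hG (fun U hU => (φ U hU).symm.toLinearMap) fun U V hU hV h s => by
    refine (φ V hV).injective ?_
    show φ V hV ((φ V hV).symm _) = φ V hV (rs M h ((φ U hU).symm s))
    rw [LinearEquiv.apply_symm_apply, hnat U V hU hV h, LinearEquiv.apply_symm_apply]
  have hid : ∀ {A B : X.Modules} (f : A ⟶ B) (g : B ⟶ A),
      (∀ (U : X.affineOpens), G U → ∀ s : Γ(A, U.1), g.app U.1 (f.app U.1 s) = s) → f ≫ g = 𝟙 A := by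
    intro A B f g h
    refine Groth.L04.KSh.hom_ext_affine fun U s => ext_good hG A fun V hV hle => ?_
    show rs A hle (g.app U.1 (f.app U.1 s)) = rs A hle s
    rw [← h V hV (rs A hle s)]
    exact ((congrArg (g.app V.1) (PresheafOfModules.naturality_apply f.val (homOfLE hle).op s)).trans
      (PresheafOfModules.naturality_apply g.val (homOfLE hle).op _)).symm
  refine ⟨⟨a, b, hid a b fun U hU s => ?_, hid b a fun U hU s => ?_⟩, ha⟩
  · rw [ha U hU, hb U hU]
    exact (φ U hU).symm_apply_apply s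
  · rw [hb U hU, ha U hU]
    exact (φ U hU).apply_symm_apply s

end Groth.L12.ExtSh
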