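import Groth.Agent.L22.WedgePair.Alg
import Mathlib.LinearAlgebra.ExteriorPower.Basis
import Mathlib.LinearAlgebra.Matrix.Block

/-!
# The filtration of the exterior powers of an extension
-/

set_option autoImplicit false

universe u

noncomputable section

namespace Groth.L12.ExtSh

open ExteriorAlgebra (ιMulti)
open Module
open Groth.L22.WedgePair (mulW mulW_ιMulti)

variable {R : Type u} [CommRing R] {A B C : Type u} [AddCommGroup A] [Module R A] [AddCommGroup B] [Module R B]
  [AddCommGroup C] [Module R C]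

theorem ι_mul_ι_neg (x y : B) :
    ExteriorAlgebra.ι R x * ExteriorAlgebra.ι R y = -(ExteriorAlgebra.ι R y * ExteriorAlgebra.ι R x) :=
  eq_neg_of_add_eq_zero_left (ExteriorAlgebra.ι_add_mul_swap x y)

theorem ι_mul_ιMulti (y : B) : ∀ {i : ℕ} (u : Fin i → B),
    ExteriorAlgebra.ι R y * ιMulti R i u = (-1 : R) ^ i • (ιMulti R i u * ExteriorAlgebra.ι R y)
  | 0, u => by simp
  | i + 1, u => by
    rw [ExteriorAlgebra.ιMulti_succ_apply, ← mul_assoc, ι_mul_ι_neg, neg_mul, mul_assoc,
      ι_mul_ιMulti y (Matrix.vecTail u), mul_smul_comm, ← mul_assoc, ← neg_smul, pow_succ, mul_neg_one]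

theorem ιMulti_snoc {i : ℕ} (u : Fin i → B) (x : B) :
    ιMulti R (i + 1) (Fin.snoc u x) = ιMulti R i u * ExteriorAlgebra.ι R x := by
  have h : ιMulti R 1 ![x] = ExteriorAlgebra.ι R x := by
    rw [ExteriorAlgebra.ιMulti_succ_apply]
    simp
  rw [← h, ExteriorAlgebra.ιMulti_mul_ιMulti, Fin.append_right_eq_snoc]
  simp

theorem ιMulti_cons {j : ℕ} (x : B) (v : Fin j → B) :
    ιMulti R (j + 1) (Fin.cons x v) = ExteriorAlgebra.ι R x * ιMulti R j v := by
  rw [ExteriorAlgebra.ιMulti_succ_apply]
  rfl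

variable (f : A →ₗ[R] B)

/-- The products with at least `i` factors from the submodule. -/
def filE (n i : ℕ) : Submodule R (ExteriorAlgebra R B) :=
  Submodule.span R {z | ∃ (j : ℕ) (_ : i + j = n) (a : Fin i → A) (v : Fin j → B),
    z = ιMulti R i (fun k => f (a k)) * ιMulti R j v}

theorem mem_filE {n i j : ℕ} (h : i + j = n) (a : Fin i → A) (v : Fin j → B) :
    ιMulti R i (fun k => f (a k)) * ιMulti R j v ∈ filE f n i :=
  Submodule.subset_span ⟨j, h, a, v, rfl⟩

theorem filE_succ_le (n i : ℕ) : filE f n (i + 1) ≤ filE f n i := by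
  refine Submodule.span_le.2 ?_
  rintro _ ⟨j, h, a, v, rfl⟩
  have ha : (fun k => f (a k)) = Fin.snoc (fun k => f (Fin.init a k)) (f (a (Fin.last i))) := by
    funext k
    refine Fin.lastCases ?_ (fun k => ?_) k
    · simp
    · simp [Fin.init]
  rw [ha, ιMulti_snoc, mul_assoc, ← ιMulti_cons]
  exact mem_filE f (by omega) _ _

theorem ι_mul_mem_filE (y : B) {n i : ℕ} {z : ExteriorAlgebra R B} (hz : z ∈ filE f n i) :
    ExteriorAlgebra.ι R y * z ∈ filE f (n + 1) i := by
  induction hz using Submodule.span_induction with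
  | mem z hz =>
    obtain ⟨j, h, a, v, rfl⟩ := hz
    rw [← mul_assoc, ι_mul_ιMulti, smul_mul_assoc, mul_assoc, ← ιMulti_cons]
    exact Submodule.smul_mem _ _ (mem_filE f (by omega) _ _)
  | zero => rw [mul_zero]; exact zero_mem _
  | add a b _ _ ha hb => rw [mul_add]; exact add_mem ha hb
  | smul r a _ ha => rw [mul_smul_comm]; exact Submodule.smul_mem _ _ ha

/-- Changing the free factors by a splitting stays in the next step. -/
theorem mul_sub_mem_filE (g : B →ₗ[R] C) (s : C →ₗ[R] B) (r : B →ₗ[R] A)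
    (hrs : ∀ b, f (r b) + s (g b) = b) : ∀ {j i : ℕ} (a : Fin i → A) (v : Fin j → B),
    ιMulti R i (fun k => f (a k)) * (ιMulti R j v - ιMulti R j fun k => s (g (v k))) ∈ filE f (i + j) (i + 1)
  | 0, i, a, v => by
    rw [ExteriorAlgebra.ιMulti_zero_apply, ExteriorAlgebra.ιMulti_zero_apply, sub_self, mul_zero]
    exact zero_mem _
  | j + 1, i, a, v => by
    let P := ιMulti R j (Matrix.vecTail v)
    let P' := ιMulti R j fun k => s (g (Matrix.vecTail v k))
    have hP : ιMulti R (j + 1) v = ExteriorAlgebra.ι R (v 0) * P := ExteriorAlgebra.ιMulti_succ_apply _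
    have hP' : ιMulti R (j + 1) (fun k => s (g (v k))) = ExteriorAlgebra.ι R (s (g (v 0))) * P' :=
      ExteriorAlgebra.ιMulti_succ_apply _
    have hv : ExteriorAlgebra.ι R (v 0) = ExteriorAlgebra.ι R (f (r (v 0))) + ExteriorAlgebra.ι R (s (g (v 0))) := by
      rw [← map_add, hrs]
    rw [hP, hP', hv, add_mul, add_sub_assoc, ← mul_sub, mul_add]
    refine add_mem ?_ ?_
    · rw [← mul_assoc, ← ιMulti_snoc]
      have h1 := mem_filE f (n := i + (j + 1)) (show i + 1 + j = i + (j + 1) by omega)
        (Fin.snoc a (r (v 0))) (Matrix.vecTail v)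
      rwa [show (fun k => f (Fin.snoc (α := fun _ => A) a (r (v 0)) k)) = Fin.snoc (fun k => f (a k)) (f (r (v 0))) from
        funext fun k => Fin.lastCases (by simp) (fun k => by simp) k] at h1
    · have h2 := ι_mul_mem_filE f (s (g (v 0))) (mul_sub_mem_filE g s r hrs a (Matrix.vecTail v))
      rw [← mul_assoc, ι_mul_ιMulti, smul_mul_assoc, mul_assoc] at h2
      have h3 := Submodule.smul_mem _ ((-1 : R) ^ i) h2
      rw [smul_smul, ← mul_pow, neg_one_mul, neg_neg, one_pow, one_smul] at h3
      exact h3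

/-- The filtration of the exterior power. -/
def fil (n i : ℕ) : Submodule R (⋀[R]^n B) := (filE f n i).comap (⋀[R]^n B).subtype

theorem fil_succ_le (n i : ℕ) : fil f n (i + 1) ≤ fil f n i :=
  Submodule.comap_mono (filE_succ_le f n i)

theorem mulW_mem_fil {n i j : ℕ} (h : i + j = n) (a : Fin i → A) (v : Fin j → B) :
    mulW h (exteriorPower.ιMulti R i fun k => f (a k)) (exteriorPower.ιMulti R j v) ∈ fil f n i :=
  mem_filE f h a v

/-- The generators of a step. -/
theorem fil_eq_span (n i : ℕ) : fil f n i = Submodule.span R {z | ∃ (j : ℕ) (h : i + j = n) (a : Fin i → A)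
    (v : Fin j → B), z = mulW h (exteriorPower.ιMulti R i fun k => f (a k)) (exteriorPower.ιMulti R j v)} := by
  refine Submodule.map_injective_of_injective (⋀[R]^n B).injective_subtype ?_
  rw [Submodule.map_span, fil, Submodule.map_comap_eq]
  have himg : (⋀[R]^n B).subtype '' {z | ∃ (j : ℕ) (h : i + j = n) (a : Fin i → A)
      (v : Fin j → B), z = mulW h (exteriorPower.ιMulti R i fun k => f (a k)) (exteriorPower.ιMulti R j v)} =
      {z | ∃ (j : ℕ) (_ : i + j = n) (a : Fin i → A) (v : Fin j → B),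
        z = ιMulti R i (fun k => f (a k)) * ιMulti R j v} := by
    ext z
    constructor
    · rintro ⟨_, ⟨j, h, a, v, rfl⟩, rfl⟩
      exact ⟨j, h, a, v, rfl⟩
    · rintro ⟨j, h, a, v, rfl⟩
      exact ⟨_, ⟨j, h, a, v, rfl⟩, rfl⟩
  rw [himg]
  refine inf_eq_right.2 (Submodule.span_le.2 ?_)
  rintro _ ⟨j, h, a, v, rfl⟩
  rw [Submodule.range_subtype]
  exact (mulW h (exteriorPower.ιMulti R i fun k => f (a k)) (exteriorPower.ιMulti R j v)).2

theorem fil_zero (n : ℕ) : fil f n 0 = ⊤ := by
  rw [eq_top_iff, ← exteriorPower.ιMulti_span R n B, Submodule.span_le]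
  rintro _ ⟨v, rfl⟩
  show ιMulti R n v ∈ filE f n 0
  have h := mem_filE f (zero_add n) (![] : Fin 0 → A) v
  rwa [ExteriorAlgebra.ιMulti_zero_apply, one_mul] at h

theorem fil_eq_bot {n i : ℕ} (h : n < i) : fil f n i = ⊥ := by
  rw [fil_eq_span, Submodule.span_eq_bot]
  rintro _ ⟨j, hj, -⟩
  omega

section Coord

variable {f}

/-- The functional of a family of functionals on the two factors. -/
def pairD {n i j : ℕ} (h : i + j = n) (α : Fin i → Dual R B) (γ : Fin j → Dual R B) : Dual R (⋀[R]^n B) :=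
  exteriorPower.pairingDual R B n (exteriorPower.ιMulti R n (Fin.append α γ ∘ Fin.cast h.symm))

theorem pairD_mulW {n i j : ℕ} (h : i + j = n) (α : Fin i → Dual R B) (γ : Fin j → Dual R B)
    (hγ : ∀ q a, γ q (f a) = 0) (a : Fin i → A) (v : Fin j → B) :
    pairD h α γ (mulW h (exteriorPower.ιMulti R i fun k => f (a k)) (exteriorPower.ιMulti R j v)) =
      (Matrix.of fun p q => α q (f (a p))).det * (Matrix.of fun p q => γ q (v p)).det := by
  subst h
  rw [pairD, mulW_ιMulti, exteriorPower.pairingDual_ιMulti_ιMulti,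
    ← Matrix.det_submatrix_equiv_self finSumFinEquiv]
  have hM : (Matrix.of fun p q : Fin (i + j) => (Fin.append α γ ∘ Fin.cast rfl) q
      ((Fin.append (fun k => f (a k)) v ∘ Fin.cast rfl) p)).submatrix finSumFinEquiv finSumFinEquiv =
      Matrix.fromBlocks (Matrix.of fun p q => α q (f (a p))) 0 (Matrix.of fun p q => α q (v p))
        (Matrix.of fun p q => γ q (v p)) := by
    ext (p | p) (q | q) <;> simp [hγ]
  rw [hM, Matrix.det_fromBlocks_zero₁₂]

theorem pairD_fil_succ {n i j : ℕ} (h : i + j = n) (α : Fin i → Dual R B) (γ : Fin j → Dual R B)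
    (hγ : ∀ q a, γ q (f a) = 0) {z : ⋀[R]^n B} (hz : z ∈ fil f n (i + 1)) : pairD h α γ z = 0 := by
  rw [fil_eq_span] at hz
  induction hz using Submodule.span_induction with
  | mem z hz =>
    obtain ⟨j', h', a, v, rfl⟩ := hz
    obtain rfl : j = j' + 1 := by omega
    have e : mulW h' (exteriorPower.ιMulti R (i + 1) fun k => f (a k)) (exteriorPower.ιMulti R j' v) =
        mulW h (exteriorPower.ιMulti R i fun k => f (Fin.init a k))
          (exteriorPower.ιMulti R (j' + 1) (Fin.cons (f (a (Fin.last i))) v)) := by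
      refine Subtype.ext ?_
      show ιMulti R (i + 1) (fun k => f (a k)) * ιMulti R j' v =
        ιMulti R i (fun k => f (Fin.init a k)) * ιMulti R (j' + 1) (Fin.cons (f (a (Fin.last i))) v)
      rw [ιMulti_cons, ← mul_assoc, ← ιMulti_snoc]
      congr 2
      funext k
      exact Fin.lastCases (by simp) (fun k => by simp [Fin.init]) k
    rw [e, pairD_mulW h α γ hγ]
    rw [Matrix.det_eq_zero_of_row_eq_zero (A := Matrix.of fun p q => γ q (Fin.cons (α := fun _ => B) (f (a (Fin.last i))) v p)) 0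
      (fun q => by simp [hγ]), mul_zero]
  | zero => exact map_zero _
  | add a b _ _ ha hb => rw [map_add, ha, hb, add_zero]
  | smul r a _ ha => rw [map_smul, ha, smul_zero]

end Coord

section Split

variable {f} (g : B →ₗ[R] C) (hgf : ∀ a, g (f a) = 0) (s : C →ₗ[R] B) (r : B →ₗ[R] A)
  (hrs : ∀ b, f (r b) + s (g b) = b) (hrf : ∀ a, r (f a) = a)
  {p q : ℕ} (bA : Basis (Fin p) R A) (bC : Basis (Fin q) R C) {n i j : ℕ} (h : i + j = n)

/-- The coordinate of a pair of index sets. -/
def coordD (S : Set.powersetCard (Fin p) i) (S' : Set.powersetCard (Fin q) j) : Dual R (⋀[R]^n B) :=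
  pairD h (fun k => (bA.coord (Set.powersetCard.ofFinEmbEquiv.symm S k)).comp r)
    (fun k => (bC.coord (Set.powersetCard.ofFinEmbEquiv.symm S' k)).comp g)

include hgf hrf in
theorem coordD_mulW (S : Set.powersetCard (Fin p) i) (S' : Set.powersetCard (Fin q) j) (a : Fin i → A)
    (v : Fin j → B) :
    coordD g r bA bC h S S' (mulW h (exteriorPower.ιMulti R i fun k => f (a k)) (exteriorPower.ιMulti R j v)) =
      (bA.exteriorPower i).repr (exteriorPower.ιMulti R i a) S *
        (bC.exteriorPower j).repr (exteriorPower.ιMulti R j fun k => g (v k)) S' := by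
  rw [coordD, pairD_mulW h _ _ (fun k a => by simp [hgf]) a v, exteriorPower.basis_repr_apply,
    exteriorPower.basis_repr_apply, exteriorPower.ιMultiDual_apply_ιMulti, exteriorPower.ιMultiDual_apply_ιMulti]
  simp [hrf]

variable {T : Type u} [AddCommGroup T] [Module R T] (τ : (⋀[R]^i A) →ₗ[R] (⋀[R]^j C) →ₗ[R] T)

/-- The projection of a step to a pairing of the two factors. -/
def psi : (⋀[R]^n B) →ₗ[R] T :=
  ∑ S : Set.powersetCard (Fin p) i, ∑ S' : Set.powersetCard (Fin q) j,
    (coordD g r bA bC h S S').smulRight (τ (bA.exteriorPower i S) (bC.exteriorPower j S'))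

theorem psi_apply (z : ⋀[R]^n B) : psi g r bA bC h τ z =
    ∑ S : Set.powersetCard (Fin p) i, ∑ S' : Set.powersetCard (Fin q) j,
      coordD g r bA bC h S S' z • τ (bA.exteriorPower i S) (bC.exteriorPower j S') := by
  simp [psi]

include hgf hrf in
theorem psi_mulW (a : Fin i → A) (v : Fin j → B) :
    psi g r bA bC h τ (mulW h (exteriorPower.ιMulti R i fun k => f (a k)) (exteriorPower.ιMulti R j v)) =
      τ (exteriorPower.ιMulti R i a) (exteriorPower.ιMulti R j fun k => g (v k)) := by
  conv_rhs => rw [← (bA.exteriorPower i).sum_repr (exteriorPower.ιMulti R i a),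
    ← (bC.exteriorPower j).sum_repr (exteriorPower.ιMulti R j fun k => g (v k))]
  simp only [psi_apply, coordD_mulW g hgf r hrf bA bC h, map_sum, LinearMap.sum_apply, map_smul,
    LinearMap.smul_apply]
  rw [Finset.sum_comm]
  exact Finset.sum_congr rfl fun S' _ => by
    rw [Finset.smul_sum]
    exact Finset.sum_congr rfl fun S _ => by rw [smul_smul, mul_comm]

include hgf in
theorem psi_fil_succ {z : ⋀[R]^n B} (hz : z ∈ fil f n (i + 1)) : psi g r bA bC h τ z = 0 := by
  rw [psi_apply]
  refine Finset.sum_eq_zero fun S _ => Finset.sum_eq_zero fun S' _ => ?_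
  rw [coordD, pairD_fil_succ h _ _ (fun k a => by simp [hgf]) hz, zero_smul]

include hgf hrs hrf in
/-- A vanishing projection forces membership in the next step. -/
theorem mem_fil_succ_of_psi_eq_zero
    (hτ : LinearIndependent R fun SS : Set.powersetCard (Fin p) i × Set.powersetCard (Fin q) j =>
      τ (bA.exteriorPower i SS.1) (bC.exteriorPower j SS.2))
    {z : ⋀[R]^n B} (hz : z ∈ fil f n i) (h0 : psi g r bA bC h τ z = 0) : z ∈ fil f n (i + 1) := by
  let θ : (⋀[R]^i A) →ₗ[R] (⋀[R]^j C) →ₗ[R] (⋀[R]^n B) :=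
    (mulW h).compl₁₂ (exteriorPower.map i f) (exteriorPower.map j s)
  have hdec : z - psi g r bA bC h θ z ∈ fil f n (i + 1) := by
    clear h0
    rw [fil_eq_span] at hz
    induction hz using Submodule.span_induction with
    | mem z hz =>
      obtain ⟨j', h', a, v, rfl⟩ := hz
      obtain rfl : j = j' := by omega
      rw [psi_mulW g hgf r hrf bA bC h θ]
      subst h
      show ιMulti R i (fun k => f (a k)) * ιMulti R j v -
        (exteriorPower.map i f (exteriorPower.ιMulti R i a)).1 *
          (exteriorPower.map j s (exteriorPower.ιMulti R j fun k => g (v k))).1 ∈ filE f (i + j) (i + 1)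
      rw [exteriorPower.map_apply_ιMulti, exteriorPower.map_apply_ιMulti]
      show _ - ιMulti R i (f ∘ a) * ιMulti R j (s ∘ fun k => g (v k)) ∈ _
      rw [show (f ∘ a : Fin i → B) = fun k => f (a k) from rfl,
        show (s ∘ fun k => g (v k) : Fin j → B) = fun k => s (g (v k)) from rfl, ← mul_sub]
      exact mul_sub_mem_filE f g s r hrs a v
    | zero => rw [map_zero, sub_zero]; exact zero_mem _
    | add a b _ _ ha hb => rw [map_add, add_sub_add_comm]; exact add_mem ha hb
    | smul c a _ ha => rw [map_smul, ← smul_sub]; exact Submodule.smul_mem _ _ ha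
  have hc : ∀ S S', coordD g r bA bC h S S' z = 0 := by
    intro S S'
    refine Fintype.linearIndependent_iff.1 hτ (fun SS => coordD g r bA bC h SS.1 SS.2 z) ?_ (S, S')
    rw [Fintype.sum_prod_type]
    exact (psi_apply g r bA bC h τ z).symm.trans h0
  have hzero : psi g r bA bC h θ z = 0 := by
    rw [psi_apply]
    exact Finset.sum_eq_zero fun S _ => Finset.sum_eq_zero fun S' _ => by rw [hc, zero_smul]
  rwa [hzero, sub_zero] at hdec

end Split

end Groth.L12.ExtSh
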