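import Groth.Agent.L12.ExtSh.Unique
import Groth.Agent.L12.ExtSh.GoodGlue
import Groth.Agent.L12.ExtSh.Split
import Groth.Agent.L12.ExtSh.TensBasis
import Groth.Agent.L12.ExtSh.Extension
import Groth.Agent.L12.ExtSh.Free

/-!
# The filtration of the exterior powers of an extension of bundles
-/

set_option autoImplicit false
set_option linter.style.haveILetI false
set_option linter.unusedSectionVars false
set_option backward.isDefEq.respectTransparency false
set_option backward.isDefEq.respectTransparency.types false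

universe u

open CategoryTheory CategoryTheory.Limits AlgebraicGeometry TopologicalSpace Opposite Module
open Groth.L18.Frame (rs ro rs_rs ro_ro rs_smul rs_self ro_self)
open Groth.L19.ProjBdl (IsBasisOn lc)
open Groth.L22.WedgePair (mulW mulW_ιMulti)
open Groth.L04.KSh (appₗ)
open Groth.L18.GenLoc (tens tens_rs tens_smul_left tens_smul_right)

noncomputable section

namespace Groth.L12.ExtSh

variable {X : Scheme.{u}}

theorem nat_app {M N : X.Modules} (φ : M ⟶ N) {U V : X.Opens} (h : V ≤ U) (s : Γ(M, U)) :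
    φ.app V (rs M h s) = rs N h (φ.app U s) :=
  PresheafOfModules.naturality_apply φ.val (homOfLE h).op s

theorem wres_mulW {E : X.Modules} {U V : X.affineOpens} (hle : V.1 ≤ U.1) {i j n : ℕ} (e : i + j = n)
    (u : Fin i → Γ(E, U.1)) (v : Fin j → Γ(E, U.1)) :
    wres E n hle (mulW e (wι E i U u) (wι E j U v)) =
      mulW e (wι E i V fun k => rs E hle (u k)) (wι E j V fun k => rs E hle (v k)) := by
  subst e
  rw [mulW_ιMulti, mulW_ιMulti]
  refine (wres_ι E (i + j) hle _).trans (congrArg (wι E (i + j) V) (funext fun k => ?_))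
  refine Fin.addCases (fun k => ?_) (fun k => ?_) k <;> simp

variable (S : ShortComplex X.Modules)

/-- The submodule map on sections. -/
abbrev fU (U : X.affineOpens) : Γ(S.X₁, U.1) →ₗ[Γ(X, U.1)] Γ(S.X₂, U.1) := appₗ S.f U.1

/-- The steps of the filtration on an affine open. -/
abbrev Fil (n i : ℕ) (U : X.affineOpens) : Submodule Γ(X, U.1) (W S.X₂ n U) := fil (fU S U) n i

/-- A generator of a step. -/
abbrev gen {n i j : ℕ} (e : i + j = n) (U : X.affineOpens) (a : Fin i → Γ(S.X₁, U.1))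
    (v : Fin j → Γ(S.X₂, U.1)) : W S.X₂ n U :=
  mulW e (wι S.X₂ i U fun k => fU S U (a k)) (wι S.X₂ j U v)

theorem gen_mem {n i j : ℕ} (e : i + j = n) (U : X.affineOpens) (a : Fin i → Γ(S.X₁, U.1))
    (v : Fin j → Γ(S.X₂, U.1)) : gen S e U a v ∈ Fil S n i U :=
  mulW_mem_fil (fU S U) e a v

theorem Fil_induction {n i : ℕ} {U : X.affineOpens} {P : W S.X₂ n U → Prop} (h0 : P 0)
    (hadd : ∀ a b, P a → P b → P (a + b))
    (hgen : ∀ (r : Γ(X, U.1)) (j : ℕ) (e : i + j = n) (a : Fin i → Γ(S.X₁, U.1)) (v : Fin j → Γ(S.X₂, U.1)),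
      P (r • gen S e U a v)) {z : W S.X₂ n U} (hz : z ∈ Fil S n i U) : P z := by
  rw [Fil, fil_eq_span] at hz
  suffices h : ∀ r : Γ(X, U.1), P (r • z) by simpa using h 1
  induction hz using Submodule.span_induction with
  | mem y hy =>
    obtain ⟨j, e, a, v, rfl⟩ := hy
    exact fun r => hgen r j e a v
  | zero => intro r; rw [smul_zero]; exact h0
  | add a b _ _ ha hb => intro r; rw [smul_add]; exact hadd _ _ (ha r) (hb r)
  | smul c a _ ha => intro r; rw [smul_smul]; exact ha _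

theorem wres_gen {U V : X.affineOpens} (hle : V.1 ≤ U.1) {n i j : ℕ} (e : i + j = n)
    (a : Fin i → Γ(S.X₁, U.1)) (v : Fin j → Γ(S.X₂, U.1)) :
    wres S.X₂ n hle (gen S e U a v) =
      gen S e V (fun k => rs S.X₁ hle (a k)) fun k => rs S.X₂ hle (v k) := by
  refine (wres_mulW hle e _ _).trans ?_
  refine congrArg (fun w => mulW e w _) (congrArg (wι S.X₂ i V) (funext fun k => ?_))
  exact (nat_app S.f hle (a k)).symm

theorem wres_mem_Fil {U V : X.affineOpens} (hle : V.1 ≤ U.1) {n i : ℕ} {z : W S.X₂ n U}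
    (hz : z ∈ Fil S n i U) : wres S.X₂ n hle z ∈ Fil S n i V := by
  refine Fil_induction S (P := fun z => wres S.X₂ n hle z ∈ Fil S n i V) ?_ ?_ ?_ hz
  · rw [map_zero]; exact zero_mem _
  · intro a b ha hb; rw [map_add]; exact add_mem ha hb
  · intro r j e a v
    rw [wres_smul, wres_gen]
    exact Submodule.smul_mem _ _ (gen_mem S e V _ _)

section Data

variable [Coh.IsQCoh S.X₁] [Coh.IsQCoh S.X₂]

theorem exists_clear {E : X.Modules} [Coh.IsQCoh E] (U : X.affineOpens) (g : Γ(X, U.1))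
    (t : Γ(E, (bo U g).1)) : ∃ (k : ℕ) (t' : Γ(E, U.1)), rs E (bo_le U g) t' = ro (bo_le U g) (g ^ k) • t :=
  Groth.L16.QCohSect.exists_pow_smul_eq_res U.2 E g t

theorem exists_clear_family {E : X.Modules} [Coh.IsQCoh E] (U : X.affineOpens) (g : Γ(X, U.1)) {m : ℕ}
    (t : Fin m → Γ(E, (bo U g).1)) : ∃ (k : Fin m → ℕ) (t' : Fin m → Γ(E, U.1)),
      ∀ a, rs E (bo_le U g) (t' a) = ro (bo_le U g) (g ^ k a) • t a := by
  choose k t' h using fun a => exists_clear U g (t a)
  exact ⟨k, t', h⟩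

theorem exists_clear_fun (U : X.affineOpens) (g : Γ(X, U.1)) (c : Γ(X, (bo U g).1)) :
    ∃ (k : ℕ) (c' : Γ(X, U.1)), ro (bo_le U g) c' = ro (bo_le U g) (g ^ k) * c := by
  letI : Algebra Γ(X, U.1) Γ(X, (bo U g).1) := (X.presheaf.map (homOfLE (bo_le U g)).op).hom.toAlgebra
  haveI : IsLocalization.Away g Γ(X, (bo U g).1) := IsAffineOpen.isLocalization_basicOpen U.2 g
  obtain ⟨⟨c', ⟨_, k, rfl⟩⟩, h⟩ := IsLocalization.surj (Submonoid.powers g) c
  refine ⟨k, c', ?_⟩
  rw [mul_comm]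
  exact h.symm

theorem fil_loc_surj (n i : ℕ) (U : X.affineOpens) (g : Γ(X, U.1)) {t : W S.X₂ n (bo U g)}
    (ht : t ∈ Fil S n i (bo U g)) : ∃ (k : ℕ) (s : W S.X₂ n U), s ∈ Fil S n i U ∧
      wres S.X₂ n (bo_le U g) s = ro (bo_le U g) (g ^ k) • t := by
  refine Fil_induction S (P := fun t => ∃ (k : ℕ) (s : W S.X₂ n U), s ∈ Fil S n i U ∧
      wres S.X₂ n (bo_le U g) s = ro (bo_le U g) (g ^ k) • t) ?_ ?_ ?_ ht
  · exact ⟨0, 0, zero_mem _, by rw [map_zero, smul_zero]⟩
  · rintro x y ⟨k, s, hs, e⟩ ⟨l, s', hs', e'⟩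
    refine ⟨k + l, g ^ l • s + g ^ k • s', add_mem (Submodule.smul_mem _ _ hs) (Submodule.smul_mem _ _ hs'), ?_⟩
    rw [map_add, wres_smul, wres_smul, e, e', smul_smul, smul_smul, smul_add, pow_add,
      Groth.L18.Frame.ro_mul, mul_comm (ro (bo_le U g) (g ^ l))]
  · intro c j e a v
    obtain ⟨ka, a', ha'⟩ := exists_clear_family U g a
    obtain ⟨kv, v', hv'⟩ := exists_clear_family U g v
    obtain ⟨kc, c', hc'⟩ := exists_clear_fun U g c
    refine ⟨kc + ((∑ x, ka x) + ∑ x, kv x), c' • gen S e U a' v', Submodule.smul_mem _ _ (gen_mem S e U _ _), ?_⟩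
    rw [wres_smul, wres_gen, hc']
    have hw : ∀ {m : ℕ} {E : X.Modules} (k : Fin m → ℕ) (w : Fin m → Γ(E, (bo U g).1)),
        wι E m (bo U g) (fun x => ro (bo_le U g) (g ^ k x) • w x) =
          ro (bo_le U g) (g ^ ∑ x, k x) • wι E m (bo U g) w := fun {m E} k w => by
      refine ((exteriorPower.ιMulti Γ(X, (bo U g).1) m (M := E.val.obj (op (bo U g).1))).map_smul_univ
        (fun x => ro (bo_le U g) (g ^ k x)) w).trans ?_
      congr 1
      rw [← Finset.prod_pow_eq_pow_sum]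
      exact (map_prod (X.presheaf.map (homOfLE (bo_le U g)).op).hom _ _).symm
    have hg : gen S e (bo U g) (fun x => rs S.X₁ (bo_le U g) (a' x)) (fun x => rs S.X₂ (bo_le U g) (v' x)) =
        (ro (bo_le U g) (g ^ ∑ x, ka x) * ro (bo_le U g) (g ^ ∑ x, kv x)) • gen S e (bo U g) a v := by
      rw [show (fun x => rs S.X₁ (bo_le U g) (a' x)) = fun x => ro (bo_le U g) (g ^ ka x) • a x from funext ha',
        show (fun x => rs S.X₂ (bo_le U g) (v' x)) = fun x => ro (bo_le U g) (g ^ kv x) • v x from funext hv']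
      show mulW e (wι S.X₂ i (bo U g) fun x => fU S (bo U g) (ro (bo_le U g) (g ^ ka x) • a x)) _ = _
      simp only [map_smul]
      rw [hw, hw, LinearMap.map_smul₂, map_smul, smul_smul]
    rw [hg, smul_smul, smul_smul, pow_add, pow_add, Groth.L18.Frame.ro_mul, Groth.L18.Frame.ro_mul]
    congr 1
    ring

/-- The affine data of a step. -/
def filData (n i : ℕ) : AffData X where
  obj U := ↥(Fil S n i U)
  acg _ := inferInstance
  mdl _ := inferInstance
  res h := ((wres S.X₂ n h).comp (AddSubgroupClass.subtype _)).codRestrict _ fun z => wres_mem_Fil S h z.2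
  res_smul h r z := Subtype.ext (wres_smul S.X₂ n h r z.1)
  res_self h z := Subtype.ext (wres_self S.X₂ n h z.1)
  res_res h h' z := Subtype.ext (wres_wres S.X₂ n h h' z.1)
  loc_inj U g z hz := by
    obtain ⟨k, hk⟩ := (wres_loc S.X₂ n U g).1 z.1 (congrArg Subtype.val hz)
    exact ⟨k, Subtype.ext hk⟩
  loc_surj U g t := by
    obtain ⟨k, s, hs, he⟩ := fil_loc_surj S n i U g t.2
    exact ⟨k, ⟨s, hs⟩, Subtype.ext he⟩

/-- A step of the filtration, as a module. -/
def filMod (n i : ℕ) : X.Modules := (filData S n i).glue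

/-- Its sections on affine opens. -/
def filEqv (n i : ℕ) (U : X.affineOpens) : Γ(filMod S n i, U.1) ≃ₗ[Γ(X, U.1)] ↥(Fil S n i U) :=
  (filData S n i).eqv U

theorem filEqv_rs {n i : ℕ} {U V : X.affineOpens} (h : V.1 ≤ U.1) (s : Γ(filMod S n i, U.1)) :
    ((filEqv S n i V (rs (filMod S n i) h s)).1 : W S.X₂ n V) = wres S.X₂ n h (filEqv S n i U s).1 :=
  congrArg Subtype.val ((filData S n i).eqv_rs h s)

theorem filEqv_rs_symm {n i : ℕ} {U V : X.affineOpens} (h : V.1 ≤ U.1) (z : ↥(Fil S n i U)) :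
    rs (filMod S n i) h ((filEqv S n i U).symm z) =
      (filEqv S n i V).symm ⟨wres S.X₂ n h z.1, wres_mem_Fil S h z.2⟩ :=
  (filData S n i).rs_eqv_symm h z

theorem exists_incl (n i : ℕ) : ∃ Φ : filMod S n (i + 1) ⟶ filMod S n i, ∀ (U : X.affineOpens) s,
    Φ.app U.1 s = (filEqv S n i U).symm (Submodule.inclusion (fil_succ_le _ n i) (filEqv S n (i + 1) U s)) := by
  obtain ⟨Φ, h⟩ := Groth.L04.KSh.exists_hom_affine (M := filMod S n (i + 1)) (N := filMod S n i)
    (fun U => ((filEqv S n i U).symm.toLinearMap.comp (Submodule.inclusion (fil_succ_le _ n i))).comp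
      (filEqv S n (i + 1) U).toLinearMap) fun U V h s => by
    show (filEqv S n i V).symm _ = rs (filMod S n i) h ((filEqv S n i U).symm _)
    rw [filEqv_rs_symm]
    exact congrArg (filEqv S n i V).symm (Subtype.ext (filEqv_rs S h s))
  exact ⟨Φ, h⟩

theorem isZero_filMod {n i : ℕ} (h : n < i) : IsZero (filMod S n i) := by
  refine (IsZero.iff_id_eq_zero _).2 (Groth.L04.KSh.hom_ext_affine fun U s => ?_)
  refine (filEqv S n i U).injective (Subtype.ext ?_)
  have h1 : ∀ z : ↥(Fil S n i U), z.1 = 0 := fun z => by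
    have h2 : z.1 ∈ fil (fU S U) n i := z.2
    rw [fil_eq_bot _ h] at h2
    exact (Submodule.mem_bot _).1 h2
  rw [h1, h1]

theorem nonempty_filMod_zero_iso {n : ℕ} {L : X.Modules} (hL : ExtPow.IsExtPow n S.X₂ L) :
    Nonempty (filMod S n 0 ≅ L) := by
  obtain ⟨φ, hφ⟩ := hL
  obtain ⟨e, -⟩ := exists_iso_affine (M := filMod S n 0) (N := L)
    (fun U => ((filEqv S n 0 U).trans (LinearEquiv.ofTop _ (fil_zero _ n))).trans (φ U).symm) fun U V h s => by
    show (φ V).symm ((filEqv S n 0 V (rs (filMod S n 0) h s)).1) = rs L h ((φ U).symm (filEqv S n 0 U s).1)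
    rw [filEqv_rs, rs_extPow_symm φ hφ h]
  exact ⟨e⟩

end Data

section Proj

variable [Coh.IsQCoh S.X₁] [Coh.IsQCoh S.X₂] {i j n : ℕ} {L' L'' : X.Modules}
  (φ' : ∀ U : X.affineOpens,
    (L'.val.obj (op U.1)) ≃ₗ[Γ(X, U.1)] ↥(⋀[Γ(X, U.1)]^i (S.X₁.val.obj (op U.1))))
  (φ'' : ∀ U : X.affineOpens,
    (L''.val.obj (op U.1)) ≃ₗ[Γ(X, U.1)] ↥(⋀[Γ(X, U.1)]^j (S.X₃.val.obj (op U.1))))

/-- The pairing into the sections of the tensor product. -/
def tau (U : X.affineOpens) :
    W S.X₁ i U →ₗ[Γ(X, U.1)] W S.X₃ j U →ₗ[Γ(X, U.1)] Γ(CohB1.tensorMod L' L'', U.1) :=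
  LinearMap.mk₂ Γ(X, U.1) (fun x y => tens L' L'' U.1 ((φ' U).symm x) ((φ'' U).symm y))
    (fun x x' y => (congrArg (fun w => tens L' L'' U.1 w ((φ'' U).symm y)) (map_add (φ' U).symm x x')).trans
      (Groth.L19.ProjBdl.tens_add_left _ _ _))
    (fun c x y => (congrArg (fun w => tens L' L'' U.1 w ((φ'' U).symm y)) ((φ' U).symm.map_smul c x)).trans
      (Groth.L12.FinCov.tmul_smul_left L' L'' U.1 c _ _))
    (fun x y y' => (congrArg (tens L' L'' U.1 ((φ' U).symm x)) (map_add (φ'' U).symm y y')).trans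
      (Groth.L12.FinCov.tmul_add_right L' L'' U.1 _ _ _))
    (fun c x y => (congrArg (tens L' L'' U.1 ((φ' U).symm x)) ((φ'' U).symm.map_smul c y)).trans
      (Groth.L12.FinCov.tmul_smul_right L' L'' U.1 c _ _))

theorem tau_apply (U : X.affineOpens) (x : W S.X₁ i U) (y : W S.X₃ j U) :
    tau S φ' φ'' U x y = tens L' L'' U.1 ((φ' U).symm x) ((φ'' U).symm y) := rfl

variable (hφ' : ∀ (U V : X.affineOpens) (h : V.1 ≤ U.1) (e : Fin i → S.X₁.val.obj (op U.1)),
      L'.val.map (homOfLE h).op ((φ' U).symm (exteriorPower.ιMulti _ i e)) =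
        (φ' V).symm (exteriorPower.ιMulti _ i (fun k => S.X₁.val.map (homOfLE h).op (e k))))
  (hφ'' : ∀ (U V : X.affineOpens) (h : V.1 ≤ U.1) (e : Fin j → S.X₃.val.obj (op U.1)),
      L''.val.map (homOfLE h).op ((φ'' U).symm (exteriorPower.ιMulti _ j e)) =
        (φ'' V).symm (exteriorPower.ιMulti _ j (fun k => S.X₃.val.map (homOfLE h).op (e k))))

/-- Affine opens carrying split bases. -/
def Good (U : X.affineOpens) : Prop :=
  ∃ (p q : ℕ) (a : Fin p → Γ(S.X₁, U.1)) (σ : Fin q → Γ(S.X₂, U.1)),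
    IsBasisOn S.X₁ U.1 a ∧ IsBasisOn S.X₃ U.1 fun k => S.g.app U.1 (σ k)

variable (hS : S.ShortExact) (h : i + j = n)

include hS in
theorem exists_proj_good {U : X.affineOpens} (hU : Good S U) :
    ∃ ψ : W S.X₂ n U →ₗ[Γ(X, U.1)] Γ(CohB1.tensorMod L' L'', U.1),
      (∀ (a : Fin i → Γ(S.X₁, U.1)) (v : Fin j → Γ(S.X₂, U.1)), ψ (gen S h U a v) =
        tau S φ' φ'' U (wι S.X₁ i U a) (wι S.X₃ j U fun k => S.g.app U.1 (v k))) ∧
      (∀ z ∈ Fil S n (i + 1) U, ψ z = 0) ∧
      ((∀ (U V : X.affineOpens) (hle : V.1 ≤ U.1) (e : Fin i → S.X₁.val.obj (op U.1)),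
          L'.val.map (homOfLE hle).op ((φ' U).symm (exteriorPower.ιMulti _ i e)) =
            (φ' V).symm (exteriorPower.ιMulti _ i (fun k => S.X₁.val.map (homOfLE hle).op (e k)))) →
        (∀ (U V : X.affineOpens) (hle : V.1 ≤ U.1) (e : Fin j → S.X₃.val.obj (op U.1)),
          L''.val.map (homOfLE hle).op ((φ'' U).symm (exteriorPower.ιMulti _ j e)) =
            (φ'' V).symm (exteriorPower.ιMulti _ j (fun k => S.X₃.val.map (homOfLE hle).op (e k)))) →
        (∀ z ∈ Fil S n i U, ψ z = 0 → z ∈ Fil S n (i + 1) U) ∧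
        ∀ y : Γ(CohB1.tensorMod L' L'', U.1), ∃ z ∈ Fil S n i U, ψ z = y) := by
  obtain ⟨p, q, a, σ, ha, hσ⟩ := hU
  obtain ⟨bA, hbA⟩ := Groth.L18.PlkAlg.exists_moduleBasis ha
  obtain ⟨bC, hbC⟩ := Groth.L18.PlkAlg.exists_moduleBasis hσ
  let g : Γ(S.X₂, U.1) →ₗ[Γ(X, U.1)] Γ(S.X₃, U.1) := appₗ S.g U.1
  let s : Γ(S.X₃, U.1) →ₗ[Γ(X, U.1)] Γ(S.X₂, U.1) := bC.constr Γ(X, U.1) σ
  have hgs : ∀ c, g (s c) = c := DFunLike.congr_fun (bC.ext (f₁ := g.comp s) (f₂ := LinearMap.id) fun k => by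
    show g (s (bC k)) = bC k
    rw [Basis.constr_basis, hbC]
    rfl)
  have hgf : ∀ x, g (fU S U x) = 0 := fun x => g_f_app S U.1 x
  choose r₀ hr₀ using fun b : Γ(S.X₂, U.1) => exists_app_eq hS (b - s (g b))
    (show g (b - s (g b)) = 0 by rw [map_sub, hgs, sub_self])
  let r : Γ(S.X₂, U.1) →ₗ[Γ(X, U.1)] Γ(S.X₁, U.1) :=
    { toFun := r₀
      map_add' := fun b b' => app_injective hS U.1 (by
        show fU S U _ = fU S U _
        rw [map_add, show fU S U (r₀ (b + b')) = _ from hr₀ _, show fU S U (r₀ b) = _ from hr₀ _,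
          show fU S U (r₀ b') = _ from hr₀ _, map_add, map_add]
        abel)
      map_smul' := fun c b => app_injective hS U.1 (by
        show fU S U _ = fU S U _
        rw [RingHom.id_apply, map_smul, show fU S U (r₀ (c • b)) = _ from hr₀ _,
          show fU S U (r₀ b) = _ from hr₀ _, map_smul, map_smul, smul_sub]) }
  have hrs : ∀ b, fU S U (r b) + s (g b) = b := fun b => by
    rw [show fU S U (r b) = _ from hr₀ b, sub_add_cancel]
  have hrf : ∀ x, r (fU S U x) = x := fun x => app_injective hS U.1 (by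
    show fU S U (r (fU S U x)) = fU S U x
    rw [show fU S U (r (fU S U x)) = _ from hr₀ _, hgf, map_zero, sub_zero])
  refine ⟨psi g r bA bC h (tau S φ' φ'' U), fun a v => psi_mulW g hgf r hrf bA bC h _ a v,
    fun z hz => psi_fil_succ g hgf r bA bC h _ hz, fun hφ' hφ'' => ?_⟩
  obtain ⟨ks⟩ := Groth.L18.PlkAlg.exists_enum i p
  obtain ⟨ks'⟩ := Groth.L18.PlkAlg.exists_enum j q
  obtain ⟨bT, hbT⟩ := Groth.L18.PlkAlg.exists_moduleBasis
    (isBasisOn_tens (isBasisOn_extPow φ' hφ' ha ks) (isBasisOn_extPow φ'' hφ'' hσ ks'))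
  let eI := (Equiv.prodCongr ks.symm ks'.symm).trans finProdFinEquiv
  have hfam : (fun SS : Set.powersetCard (Fin p) i × Set.powersetCard (Fin q) j =>
      tau S φ' φ'' U (bA.exteriorPower i SS.1) (bC.exteriorPower j SS.2)) = bT ∘ eI := funext fun SS => by
    rw [Function.comp_apply, hbT, tau_apply]
    simp only [eI, Equiv.trans_apply, Equiv.symm_apply_apply, Equiv.prodCongr_apply, Prod.map]
    rw [exteriorPower.basis_apply, exteriorPower.basis_apply]
    simp only [Groth.L18.PlkAlg.K, Equiv.apply_symm_apply]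
    refine congrArg₂ (fun x y => tens L' L'' U.1 ((φ' U).symm x) ((φ'' U).symm y)) ?_ ?_
    · exact congrArg (exteriorPower.ιMulti Γ(X, U.1) i (M := S.X₁.val.obj (op U.1))) (funext fun k => hbA _)
    · exact congrArg (exteriorPower.ιMulti Γ(X, U.1) j (M := S.X₃.val.obj (op U.1))) (funext fun k => hbC _)
  have hli : LinearIndependent Γ(X, U.1) fun SS : Set.powersetCard (Fin p) i × Set.powersetCard (Fin q) j =>
      tau S φ' φ'' U (bA.exteriorPower i SS.1) (bC.exteriorPower j SS.2) := by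
    rw [hfam]
    exact bT.linearIndependent.comp _ eI.injective
  refine ⟨fun z hz h0 => mem_fil_succ_of_psi_eq_zero g hgf s r hrs hrf bA bC h _ hli hz h0, fun y => ?_⟩
  have hy : y ∈ Submodule.span Γ(X, U.1) (Set.range bT) := by rw [bT.span_eq]; trivial
  induction hy using Submodule.span_induction with
  | mem y hy =>
    obtain ⟨k, rfl⟩ := hy
    obtain ⟨⟨T, T'⟩, rfl⟩ := eI.surjective k
    let v : Fin j → Γ(S.X₂, U.1) := fun k => s (bC (Set.powersetCard.ofFinEmbEquiv.symm T' k))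
    refine ⟨gen S h U (bA ∘ Set.powersetCard.ofFinEmbEquiv.symm T) v, gen_mem S h U _ _, ?_⟩
    refine Eq.trans ?_ (congrFun hfam (T, T'))
    refine (psi_mulW g hgf r hrf bA bC h _ _ _).trans ?_
    show tau S φ' φ'' U _ _ = tau S φ' φ'' U (bA.exteriorPower i T) (bC.exteriorPower j T')
    rw [exteriorPower.basis_apply, exteriorPower.basis_apply]
    refine congrArg (tau S φ' φ'' U _) (congrArg (exteriorPower.ιMulti Γ(X, U.1) j) (funext fun k => ?_))
    exact hgs _
  | zero => exact ⟨0, zero_mem _, map_zero _⟩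
  | add a b _ _ ha hb =>
    obtain ⟨z, hz, rfl⟩ := ha
    obtain ⟨w, hw, rfl⟩ := hb
    exact ⟨z + w, add_mem hz hw, map_add _ _ _⟩
  | smul c a _ ha =>
    obtain ⟨z, hz, rfl⟩ := ha
    exact ⟨c • z, Submodule.smul_mem _ _ hz, map_smul _ _ _⟩

include hS h hφ' hφ'' in
/-- The graded pieces of the filtration. -/
theorem exists_shortExact (h₁ : FlatMod.IsFinLocFree S.X₁) (h₃ : FlatMod.IsFinLocFree S.X₃) :
    ∃ (a : filMod S n (i + 1) ⟶ filMod S n i) (b : filMod S n i ⟶ CohB1.tensorMod L' L'') (w : a ≫ b = 0),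
      (ShortComplex.mk a b w).ShortExact := by
  have hG : ∀ (x : X) (O : X.Opens), x ∈ O → ∃ U, Good S U ∧ x ∈ U.1 ∧ U.1 ≤ O := fun x O hx => by
    obtain ⟨U, p, q, a, σ, hxU, hUO, ha, hσ⟩ := exists_split_bases hS h₁ h₃ x O hx
    exact ⟨U, ⟨p, q, a, σ, ha, hσ⟩, hxU, hUO⟩
  choose ψ hψgen hψsucc hψ using fun (U : X.affineOpens) (hU : Good S U) =>
    exists_proj_good S φ' φ'' hS h (n := n) hU
  obtain ⟨Φ, hΦ⟩ := exists_incl S n i
  obtain ⟨Pr, hPr⟩ := exists_hom_of_good (M := filMod S n i) (N := CohB1.tensorMod L' L'') hG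
    (fun U hU => ((ψ U hU).comp (Fil S n i U).subtype).comp (filEqv S n i U).toLinearMap)
    fun U V hU hV hle s => by
      show ψ V hV (filEqv S n i V (rs (filMod S n i) hle s)).1 =
        rs (CohB1.tensorMod L' L'') hle (ψ U hU (filEqv S n i U s).1)
      rw [filEqv_rs]
      refine Fil_induction S (P := fun z => ψ V hV (wres S.X₂ n hle z) =
        rs (CohB1.tensorMod L' L'') hle (ψ U hU z)) ?_ ?_ ?_ (filEqv S n i U s).2
      · rw [map_zero, map_zero, map_zero]
        exact (map_zero ((CohB1.tensorMod L' L'').presheaf.map (homOfLE hle).op).hom).symm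
      · intro x y hx hy
        rw [map_add, map_add, map_add, hx, hy]
        exact (map_add ((CohB1.tensorMod L' L'').presheaf.map (homOfLE hle).op).hom _ _).symm
      · intro c j' e a v
        obtain rfl : j = j' := by omega
        rw [wres_smul, wres_gen, map_smul, map_smul]
        refine Eq.trans ?_ (rs_smul _ hle c _).symm
        refine congrArg (ro hle c • ·) ?_
        erw [hψgen U hU a v, hψgen V hV]
        rw [tau_apply, tau_apply, tens_rs]
        refine congrArg₂ (tens L' L'' V.1) (hφ' U V hle a).symm ?_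
        refine Eq.trans ?_ (hφ'' U V hle fun k => S.g.app U.1 (v k)).symm
        exact congrArg (fun f => (φ'' V).symm (exteriorPower.ιMulti Γ(X, V.1) j f))
          (funext fun k => nat_app S.g hle (v k))
  have hw : Φ ≫ Pr = 0 := Groth.L04.KSh.hom_ext_affine fun U s => ext_good hG _ fun V hV hle => by
    show rs _ hle (Pr.app U.1 (Φ.app U.1 s)) = rs _ hle 0
    rw [← nat_app, ← nat_app, hPr V hV, hΦ V]
    show ψ V hV (filEqv S n i V ((filEqv S n i V).symm _)).1 = _
    rw [LinearEquiv.apply_symm_apply]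
    refine (hψsucc V hV _ (filEqv S n (i + 1) V _).2).trans ?_
    exact (map_zero ((CohB1.tensorMod L' L'').presheaf.map (homOfLE hle).op).hom).symm
  refine ⟨Φ, Pr, hw, ?_⟩
  rw [Groth.L21.Mod.shortExact_iff_stalk]
  intro x
  have inj : ∀ V : X.affineOpens, Function.Injective (Φ.app V.1) := fun V s t e => by
    rw [hΦ, hΦ] at e
    exact (filEqv S n (i + 1) V).injective (Submodule.inclusion_injective _ ((filEqv S n i V).symm.injective e))
  have repr : ∀ (M : X.Modules) (m : M.presheaf.stalk x), ∃ (U : X.affineOpens) (hx : x ∈ U.1)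
      (s : Γ(M, U.1)), Good S U ∧ M.presheaf.germ U.1 x hx s = m := fun M m => by
    obtain ⟨O, hO, s, rfl⟩ := Groth.L00.StalkTensor.exists_germ (Groth.L00.Tensor.pre M) x m
    obtain ⟨U, hU, hxU, hUO⟩ := hG x O hO
    exact ⟨U, hxU, rs M hUO s, hU, M.presheaf.germ_res_apply (homOfLE hUO) x hxU s⟩
  have small : ∀ (M : X.Modules) (U : X.affineOpens) (hx : x ∈ U.1) (s : Γ(M, U.1)),
      M.presheaf.germ U.1 x hx s = 0 → ∃ (V : X.affineOpens) (hV : V.1 ≤ U.1), x ∈ V.1 ∧ Good S V ∧ rs M hV s = 0 :=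
    fun M U hx s h0 => by
      obtain ⟨O, hO, i1, i2, he⟩ := M.presheaf.germ_eq x hx hx s 0 (by rw [h0, map_zero])
      obtain ⟨V, hV, hxV, hVO⟩ := hG x O hO
      refine ⟨V, hVO.trans i1.le, hxV, hV, ?_⟩
      have := congrArg (rs M hVO) he
      rw [map_zero] at this
      refine Eq.trans ?_ (this.trans (map_zero _))
      exact (rs_rs M i1.le hVO s).symm
  have hst : ∀ {M N : X.Modules} (f : M ⟶ N) {V : X.affineOpens} (hx : x ∈ V.1) (s : Γ(M, V.1)),
      (Groth.L21.Mod.stalkF X x).map f (M.presheaf.germ V.1 x hx s) = N.presheaf.germ V.1 x hx (f.app V.1 s) :=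
    fun f V hx s => Groth.L21.Mod.stalkF_map_germ f V.1 x hx s
  refine { exact := ?_, mono_f := ?_, epi_g := ?_ }
  · rw [ShortComplex.ab_exact_iff]
    intro m hm
    obtain ⟨U, hx, s, -, rfl⟩ := repr _ m
    obtain ⟨V, hV, hxV, hVg, h0⟩ := small _ U hx (Pr.app U.1 s) ((hst Pr hx s).symm.trans hm)
    rw [← nat_app, hPr V hVg] at h0
    have hmem := ((hψ V hVg) hφ' hφ'').1 _ (filEqv S n i V (rs (filMod S n i) hV s)).2 h0
    refine ⟨(filMod S n (i + 1)).presheaf.germ V.1 x hxV ((filEqv S n (i + 1) V).symm ⟨_, hmem⟩), ?_⟩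
    refine (hst Φ hxV _).trans ?_
    rw [hΦ, LinearEquiv.apply_symm_apply]
    refine Eq.trans ?_ ((filMod S n i).presheaf.germ_res_apply (homOfLE hV) x hxV s)
    refine congrArg _ ?_
    show (filEqv S n i V).symm _ = rs (filMod S n i) hV s
    rw [show Submodule.inclusion (fil_succ_le (fU S V) n i) ⟨_, hmem⟩ =
      filEqv S n i V (rs (filMod S n i) hV s) from Subtype.ext rfl, LinearEquiv.symm_apply_apply]
  · rw [AddCommGrpCat.mono_iff_injective, injective_iff_map_eq_zero]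
    intro m hm
    obtain ⟨U, hx, s, -, rfl⟩ := repr _ m
    obtain ⟨V, hV, hxV, -, h0⟩ := small _ U hx (Φ.app U.1 s) ((hst Φ hx s).symm.trans hm)
    rw [← nat_app] at h0
    have := inj V (h0.trans (map_zero (Φ.app V.1).hom).symm)
    refine (((filMod S n (i + 1)).presheaf.germ_res_apply (homOfLE hV) x hxV s).symm.trans
      (congrArg _ this)).trans (map_zero _)
  · rw [AddCommGrpCat.epi_iff_surjective]
    intro m
    obtain ⟨U, hx, y, hU, rfl⟩ := repr _ m
    obtain ⟨z, hz, rfl⟩ := ((hψ U hU) hφ' hφ'').2 y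
    refine ⟨(filMod S n i).presheaf.germ U.1 x hx ((filEqv S n i U).symm ⟨z, hz⟩), ?_⟩
    refine (hst Pr hx _).trans ?_
    rw [hPr U hU]
    show _ = (CohB1.tensorMod L' L'').presheaf.germ U.1 x hx (ψ U hU z)
    refine congrArg _ ?_
    show ψ U hU (filEqv S n i U ((filEqv S n i U).symm ⟨z, hz⟩)).1 = _
    rw [LinearEquiv.apply_symm_apply]

end Proj

end Groth.L12.ExtSh
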