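import Groth.Agent.L22.WedgePair.Sheaf
import Groth.Agent.L16.QcqsPush
import Groth.Prelude.Def_CohB1

/-!
# Quasi-coherent modules from data on affine opens

`AffData X`: modules on the affine opens of `X` with restriction maps which are localisations on basic
opens.  `AffData.glue` is the corresponding quasi-coherent module, `AffData.eqv` identifies its sections
on affine opens with the data.
-/

set_option autoImplicit false
set_option backward.isDefEq.respectTransparency false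
set_option backward.isDefEq.respectTransparency.types false

universe u

open CategoryTheory CategoryTheory.Limits AlgebraicGeometry TopologicalSpace Opposite
open Groth.L18.Frame (rs ro rs_rs ro_ro rs_smul rs_self ro_self)

noncomputable section

namespace Groth.L12.ExtSh

variable {X : Scheme.{u}}

/-- A basic open of an affine open, as an affine open. -/
def bo (U : X.affineOpens) (g : Γ(X, U.1)) : X.affineOpens := X.affineBasicOpen g

theorem bo_le (U : X.affineOpens) (g : Γ(X, U.1)) : (bo U g).1 ≤ U.1 := X.basicOpen_le g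

theorem bo_mul_le_left (U : X.affineOpens) (g h : Γ(X, U.1)) : (bo U (g * h)).1 ≤ (bo U g).1 :=
  (X.basicOpen_mul g h).le.trans inf_le_left

theorem bo_mul_le_right (U : X.affineOpens) (g h : Γ(X, U.1)) : (bo U (g * h)).1 ≤ (bo U h).1 :=
  (X.basicOpen_mul g h).le.trans inf_le_right

/-- Modules on affine opens, localising on basic opens. -/
structure AffData (X : Scheme.{u}) where
  obj : X.affineOpens → Type u
  acg : ∀ U, AddCommGroup (obj U)
  mdl : ∀ U, Module Γ(X, U.1) (obj U)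
  res : ∀ {U V : X.affineOpens}, V.1 ≤ U.1 → (obj U →+ obj V)
  res_smul : ∀ {U V : X.affineOpens} (h : V.1 ≤ U.1) (r : Γ(X, U.1)) (s : obj U), res h (r • s) = ro h r • res h s
  res_self : ∀ {U : X.affineOpens} (h : U.1 ≤ U.1) (s : obj U), res h s = s
  res_res : ∀ {U V W : X.affineOpens} (h : V.1 ≤ U.1) (h' : W.1 ≤ V.1) (s : obj U),
    res h' (res h s) = res (h'.trans h) s
  loc_inj : ∀ (U : X.affineOpens) (g : Γ(X, U.1)) (s : obj U),
    res (V := bo U g) (bo_le U g) s = 0 → ∃ k : ℕ, g ^ k • s = 0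
  loc_surj : ∀ (U : X.affineOpens) (g : Γ(X, U.1)) (t : obj (bo U g)), ∃ (k : ℕ) (s : obj U),
    res (bo_le U g) s = ro (bo_le U g) (g ^ k) • t

attribute [instance] AffData.acg AffData.mdl

theorem exists_basicOpen_le_affine (U : X.affineOpens) {x : X} (hx : x ∈ U.1) {O : X.Opens} (hO : x ∈ O) :
    ∃ g : Γ(X, U.1), x ∈ X.basicOpen g ∧ X.basicOpen g ≤ O := by
  obtain ⟨g, hg, hxg⟩ := IsAffineOpen.exists_basicOpen_le U.2 ⟨x, hO⟩ hx
  exact ⟨g, hxg, hg⟩

theorem isUnit_ro_self (U : X.affineOpens) (g : Γ(X, U.1)) : IsUnit (ro (bo_le U g) g) :=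
  RingedSpace.isUnit_res_basicOpen X.toLocallyRingedSpace.toRingedSpace g

namespace AffData

variable (D : AffData X)

/-- Data agreeing locally agree. -/
theorem eq_zero_of_locally {U : X.affineOpens} (s : D.obj U)
    (h : ∀ x ∈ U.1, ∃ (V : X.affineOpens) (hV : V.1 ≤ U.1), x ∈ V.1 ∧ D.res hV s = 0) : s = 0 := by
  let J : Ideal Γ(X, U.1) := (Submodule.span Γ(X, U.1) {s}).annihilator
  have hJ : ∀ g, g ∈ J ↔ g • s = 0 := fun g => Submodule.mem_annihilator_span_singleton s g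
  have key : ∀ x : U.1, ∃ (g : Γ(X, U.1)) (k : ℕ), x.1 ∈ X.basicOpen g ∧ g ^ k • s = 0 := by
    rintro ⟨x, hx⟩
    obtain ⟨V, hV, hxV, h0⟩ := h x hx
    obtain ⟨g, hxg, hgV⟩ := exists_basicOpen_le_affine U hx hxV
    obtain ⟨k, hk⟩ := D.loc_inj U g s (by
      rw [← D.res_res hV (W := bo U g) hgV s, h0, map_zero])
    exact ⟨g, k, hxg, hk⟩
  choose g k hg hk using key
  have htop : Ideal.span (Set.range g) = ⊤ := by
    rw [← IsAffineOpen.self_le_iSup_basicOpen_iff U.2]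
    intro x hx
    exact Opens.mem_iSup.2 ⟨⟨g ⟨x, hx⟩, ⟨x, hx⟩, rfl⟩, hg ⟨x, hx⟩⟩
  have hrad : Ideal.span (Set.range g) ≤ J.radical := Ideal.span_le.2 (by
    rintro _ ⟨x, rfl⟩
    exact ⟨k x, (hJ _).2 (hk x)⟩)
  have h1 : (1 : Γ(X, U.1)) ∈ J := by
    rw [(Ideal.eq_top_iff_one _), ] at htop
    obtain ⟨m, hm⟩ := hrad htop
    rwa [one_pow] at hm
  have := (hJ 1).1 h1
  rwa [one_smul] at this

/-- Data agreeing locally agree. -/
theorem ext_locally {U : X.affineOpens} (s t : D.obj U)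
    (h : ∀ x ∈ U.1, ∃ (V : X.affineOpens) (hV : V.1 ≤ U.1), x ∈ V.1 ∧ D.res hV s = D.res hV t) : s = t :=
  sub_eq_zero.1 (D.eq_zero_of_locally _ fun x hx => by
    obtain ⟨V, hV, hxV, he⟩ := h x hx
    exact ⟨V, hV, hxV, by rw [map_sub, he, sub_self]⟩)

/-- Gluing along a finite cover by basic opens. -/
theorem exists_glue_basic {U : X.affineOpens} {ι : Type} [Fintype ι] (g : ι → Γ(X, U.1))
    (hg : Ideal.span (Set.range g) = ⊤) (t : ∀ a, D.obj (bo U (g a)))
    (ht : ∀ a b, D.res (V := bo U (g a * g b)) (bo_mul_le_left U (g a) (g b)) (t a) =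
        D.res (V := bo U (g a * g b)) (bo_mul_le_right U (g a) (g b)) (t b)) :
    ∃ s : D.obj U, ∀ a, D.res (bo_le U (g a)) s = t a := by
  classical
  choose k s hs using fun a => D.loc_surj U (g a) (t a)
  let N := Finset.univ.sup k
  let s₁ : ι → D.obj U := fun a => g a ^ (N - k a) • s a
  have hs₁ : ∀ a, D.res (bo_le U (g a)) (s₁ a) =
      ro (bo_le U (g a)) (g a ^ N) • t a := fun a => by
    rw [D.res_smul, hs]
    erw [smul_smul]
    have hN : k a ≤ N := Finset.le_sup (f := k) (Finset.mem_univ a)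
    congr 1
    show _ = ro (bo_le U (g a)) (g a ^ N)
    rw [← map_mul, ← pow_add, Nat.sub_add_cancel hN]
  have hdiff : ∀ a b, D.res (bo_le U (g a * g b))
      (g b ^ N • s₁ a - g a ^ N • s₁ b) = 0 := fun a b => by
    have ha := bo_mul_le_left U (g a) (g b)
    have hb := bo_mul_le_right U (g a) (g b)
    rw [map_sub, D.res_smul _ (g b ^ N) (s₁ a), D.res_smul _ (g a ^ N) (s₁ b),
      ← D.res_res (bo_le U (g a)) (W := bo U (g a * g b)) ha (s₁ a),
      ← D.res_res (bo_le U (g b)) (W := bo U (g a * g b)) hb (s₁ b),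
      hs₁, hs₁, D.res_smul, D.res_smul, ht a b]
    erw [ro_ro, ro_ro, smul_smul, smul_smul, ← map_mul, ← map_mul, mul_comm (g b ^ N), sub_self]
  choose m hm using fun ab : ι × ι => D.loc_inj U (g ab.1 * g ab.2) _ (hdiff ab.1 ab.2)
  let M := Finset.univ.sup m
  have hM : ∀ a b, g b ^ (N + M) • (g a ^ M • s₁ a) = g a ^ (N + M) • (g b ^ M • s₁ b) := fun a b => by
    have h1 : (g a * g b) ^ M • (g b ^ N • s₁ a - g a ^ N • s₁ b) = 0 := by
      have hle : m (a, b) ≤ M := Finset.le_sup (f := m) (Finset.mem_univ (a, b))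
      rw [← Nat.sub_add_cancel hle, pow_add, mul_smul, hm (a, b), smul_zero]
    rw [smul_sub, sub_eq_zero, smul_smul _ (g b ^ N) (s₁ a), smul_smul _ (g a ^ N) (s₁ b)] at h1
    rw [smul_smul _ (g a ^ M) (s₁ a), smul_smul _ (g b ^ M) (s₁ b)]
    refine Eq.trans ?_ (h1.trans ?_) <;> congr 1 <;> ring
  have hspan : (1 : Γ(X, U.1)) ∈ Ideal.span (Set.range fun a => g a ^ (N + M)) := by
    have h2 := Ideal.span_pow_eq_top _ hg (N + M)
    rw [← Set.range_comp] at h2
    exact h2.symm ▸ Submodule.mem_top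
  obtain ⟨c, hc⟩ := (Submodule.mem_span_range_iff_exists_fun _).1 hspan
  refine ⟨∑ a, c a • (g a ^ M • s₁ a), fun b => ?_⟩
  have h3 : g b ^ (N + M) • (∑ a, c a • (g a ^ M • s₁ a)) = g b ^ M • s₁ b := by
    rw [Finset.smul_sum]
    calc ∑ a, g b ^ (N + M) • c a • (g a ^ M • s₁ a)
        = ∑ a, (c a • g a ^ (N + M)) • (g b ^ M • s₁ b) := Finset.sum_congr rfl fun a _ => by
          rw [smul_comm, hM a b, smul_assoc]
      _ = g b ^ M • s₁ b := by rw [← Finset.sum_smul, hc, one_smul]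
  have h4 := congrArg (D.res (bo_le U (g b))) h3
  rw [D.res_smul, D.res_smul, hs₁] at h4
  erw [smul_smul, ← map_mul, ← pow_add, Nat.add_comm M N] at h4
  have hu : IsUnit (ro (bo_le U (g b)) (g b ^ (N + M))) := by
    rw [ro, map_pow]
    exact (isUnit_ro_self U (g b)).pow _
  exact hu.smul_left_cancel.1 h4

/-- Gluing data along any cover of an affine open by affine opens. -/
theorem exists_glue {U : X.affineOpens} {κ : Type u} (V : κ → X.affineOpens) (hV : ∀ i, (V i).1 ≤ U.1)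
    (hcov : ∀ x ∈ U.1, ∃ i, x ∈ (V i).1) (t : ∀ i, D.obj (V i))
    (ht : ∀ i j (W : X.affineOpens) (hi : W.1 ≤ (V i).1) (hj : W.1 ≤ (V j).1), D.res hi (t i) = D.res hj (t j)) :
    ∃ s : D.obj U, ∀ i, D.res (hV i) s = t i := by
  classical
  have key : ∀ x : U.1, ∃ (g : Γ(X, U.1)) (i : κ), x.1 ∈ X.basicOpen g ∧ X.basicOpen g ≤ (V i).1 := by
    rintro ⟨x, hx⟩
    obtain ⟨i, hi⟩ := hcov x hx
    obtain ⟨g, hxg, hg⟩ := exists_basicOpen_le_affine U hx hi
    exact ⟨g, i, hxg, hg⟩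
  choose g i hxg hgi using key
  have htop : Ideal.span (Set.range g) = ⊤ := by
    rw [← IsAffineOpen.self_le_iSup_basicOpen_iff U.2]
    intro x hx
    exact Opens.mem_iSup.2 ⟨⟨g ⟨x, hx⟩, ⟨x, hx⟩, rfl⟩, hxg ⟨x, hx⟩⟩
  obtain ⟨T, hTsub, hT⟩ := Submodule.mem_span_finite_of_mem_span ((Ideal.eq_top_iff_one _).1 htop)
  choose xT hxT using fun a : (T : Set Γ(X, U.1)) => hTsub a.2
  let e := (Fintype.equivFin (T : Set Γ(X, U.1))).symm
  let g' : Fin (Fintype.card (T : Set Γ(X, U.1))) → Γ(X, U.1) := fun a => g (xT (e a))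
  have hg' : Ideal.span (Set.range g') = ⊤ := by
    refine (Ideal.eq_top_iff_one _).2 (Submodule.span_mono ?_ hT)
    intro y hy
    obtain ⟨a, ha⟩ := e.surjective ⟨y, hy⟩
    exact ⟨a, show g (xT (e a)) = y by rw [ha, hxT]⟩
  obtain ⟨s, hs⟩ := D.exists_glue_basic g'
    hg' (fun a => D.res (hgi (xT (e a))) (t (i (xT (e a))))) (fun a b => by
      erw [D.res_res, D.res_res]
      exact ht _ _ _ _ _)
  refine ⟨s, fun j => D.ext_locally _ _ fun x hx => ?_⟩
  have hxU : x ∈ ⨆ f : Set.range g', X.basicOpen (f : Γ(X, U.1)) :=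
    (IsAffineOpen.self_le_iSup_basicOpen_iff U.2 (s := Set.range g')).2 hg' (hV j hx)
  obtain ⟨⟨_, a, rfl⟩, hxa⟩ := Opens.mem_iSup.1 hxU
  obtain ⟨W, hxW, hWle⟩ := Groth.L22.WedgePair.exists_affine_mem ((V j).1 ⊓ X.basicOpen (g' a)) ⟨hx, hxa⟩
  refine ⟨W, hWle.trans inf_le_left, hxW, ?_⟩
  rw [D.res_res, ← D.res_res (V := bo U (g' a)) (bo_le U (g' a)) (hWle.trans inf_le_right), hs]
  erw [D.res_res]
  exact ht _ _ _ _ _

/-- The index of the families of values. -/
abbrev Below (U : X.Opens) : Type u := {V : X.affineOpens // V.1 ≤ U}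

instance piModule (U : X.Opens) : Module Γ(X, U) (∀ V : Below U, D.obj V.1) where
  smul r s := fun V => ro V.2 r • s V
  one_smul s := funext fun V => by show ro V.2 1 • s V = s V; rw [show ro V.2 (1 : Γ(X, U)) = 1 from map_one _, one_smul]
  mul_smul r r' s := funext fun V => by
    show ro V.2 (r * r') • s V = ro V.2 r • ro V.2 r' • s V
    rw [show ro V.2 (r * r') = ro V.2 r * ro V.2 r' from map_mul _ _ _, mul_smul]
  smul_zero r := funext fun V => smul_zero _
  smul_add r s t := funext fun V => smul_add _ _ _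
  add_smul r r' s := funext fun V => by
    show ro V.2 (r + r') • s V = ro V.2 r • s V + ro V.2 r' • s V
    rw [show ro V.2 (r + r') = ro V.2 r + ro V.2 r' from map_add _ _ _, add_smul]
  zero_smul s := funext fun V => by show ro V.2 0 • s V = 0; rw [show ro V.2 (0 : Γ(X, U)) = 0 from map_zero _, zero_smul]

theorem piModule_apply (U : X.Opens) (r : Γ(X, U)) (s : ∀ V : Below U, D.obj V.1) (V : Below U) :
    (r • s) V = ro V.2 r • s V := rfl

/-- The sections of the glued module. -/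
def sect (U : X.Opens) : Submodule Γ(X, U) (∀ V : Below U, D.obj V.1) where
  carrier := {s | ∀ (V W : Below U) (h : W.1.1 ≤ V.1.1), D.res h (s V) = s W}
  zero_mem' := fun V W h => map_zero _
  add_mem' {a b} ha hb V W h := by
    show D.res h (a V + b V) = a W + b W
    rw [map_add, ha V W h, hb V W h]
  smul_mem' r a ha V W h := by
    rw [piModule_apply, piModule_apply, D.res_smul, ha V W h, ro_ro]

/-- Restriction of families. -/
def resFam {U U' : X.Opens} (h : U' ≤ U) : D.sect U →+ D.sect U' where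
  toFun a := ⟨fun V => a.1 ⟨V.1, V.2.trans h⟩, fun V W h' => a.2 ⟨V.1, V.2.trans h⟩ ⟨W.1, W.2.trans h⟩ h'⟩
  map_zero' := rfl
  map_add' _ _ := rfl

/-- The presheaf of families. -/
def abPresheaf : (Opens X)ᵒᵖ ⥤ Ab.{u} where
  obj U := AddCommGrpCat.of (D.sect U.unop)
  map {U U'} f := AddCommGrpCat.ofHom (D.resFam f.unop.le)
  map_id U := rfl
  map_comp {U U' U''} f g := AddCommGrpCat.ext fun a => rfl

instance (U : (Opens X)ᵒᵖ) : Module (X.ringCatSheaf.obj.obj U) (D.abPresheaf.obj U) :=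
  inferInstanceAs (Module Γ(X, U.unop) (D.sect U.unop))

/-- The presheaf of modules of families. -/
def modPresheaf : PresheafOfModules.{u} X.ringCatSheaf.obj :=
  PresheafOfModules.ofPresheaf D.abPresheaf fun {U U'} f r a => Subtype.ext (funext fun V => by
    show ro (V.2.trans f.unop.le) (r : Γ(X, U.unop)) • (show D.sect U.unop from a).1 ⟨V.1, V.2.trans f.unop.le⟩ =
      ro V.2 (ro f.unop.le (r : Γ(X, U.unop))) • (show D.sect U.unop from a).1 ⟨V.1, V.2.trans f.unop.le⟩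
    rw [ro_ro])

theorem isSheaf_abPresheaf : TopCat.Presheaf.IsSheaf (X := X.toTopCat) D.abPresheaf := by
  refine (TopCat.Presheaf.isSheaf_iff_isSheafUniqueGluing _).mpr ?_
  intro κ O sf hsf
  have hcompat : ∀ (a b : κ) (V : X.affineOpens) (ha : V.1 ≤ O a) (hb : V.1 ≤ O b),
      (sf a).1 ⟨V, ha⟩ = (sf b).1 ⟨V, hb⟩ := fun a b V ha hb =>
    congrFun (congrArg Subtype.val (hsf a b)) ⟨V, le_inf ha hb⟩
  have hcov : ∀ (V : Below (iSup O)) (x : X), x ∈ V.1.1 →
      ∃ A : {A : X.affineOpens // A.1 ≤ V.1.1 ∧ ∃ a, A.1 ≤ O a}, x ∈ A.1.1 := fun V x hx => by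
    obtain ⟨a, ha⟩ := Opens.mem_iSup.1 (V.2 hx)
    obtain ⟨A, hxA, hA⟩ := Groth.L22.WedgePair.exists_affine_mem (V.1.1 ⊓ O a) ⟨hx, ha⟩
    exact ⟨⟨A, hA.trans inf_le_left, a, hA.trans inf_le_right⟩, hxA⟩
  have hex : ∀ V : Below (iSup O), ∃ s : D.obj V.1, ∀ (A : X.affineOpens) (hA : A.1 ≤ V.1.1) (a : κ)
      (ha : A.1 ≤ O a), D.res hA s = (sf a).1 ⟨A, ha⟩ := fun V => by
    obtain ⟨s, hs⟩ := D.exists_glue (U := V.1) (fun A : {A : X.affineOpens // A.1 ≤ V.1.1 ∧ ∃ a, A.1 ≤ O a} => A.1)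
      (fun A => A.2.1) (hcov V) (fun A => (sf A.2.2.choose).1 ⟨A.1, A.2.2.choose_spec⟩) fun A B W hWA hWB => by
        rw [(sf A.2.2.choose).2 ⟨A.1, A.2.2.choose_spec⟩ ⟨W, hWA.trans A.2.2.choose_spec⟩ hWA,
          (sf B.2.2.choose).2 ⟨B.1, B.2.2.choose_spec⟩ ⟨W, hWB.trans B.2.2.choose_spec⟩ hWB]
        exact hcompat _ _ W _ _
    refine ⟨s, fun A hA a ha => ?_⟩
    exact (hs ⟨A, hA, a, ha⟩).trans (hcompat _ _ A _ _)
  choose s hs using hex
  have huniq : ∀ (V : Below (iSup O)) (t : D.obj V.1), (∀ (A : X.affineOpens) (hA : A.1 ≤ V.1.1) (a : κ)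
      (ha : A.1 ≤ O a), D.res hA t = (sf a).1 ⟨A, ha⟩) → t = s V := fun V t ht =>
    D.ext_locally _ _ fun x hx => by
      obtain ⟨⟨A, hA, a, ha⟩, hxA⟩ := hcov V x hx
      exact ⟨A, hA, hxA, (ht A hA a ha).trans (hs V A hA a ha).symm⟩
  have hmem : s ∈ D.sect (iSup O) := fun V W h =>
    huniq W _ fun A hA a ha => by rw [D.res_res, hs V A _ a ha]
  refine ⟨⟨s, hmem⟩, fun a => Subtype.ext (funext fun V => ?_), fun t' ht' => ?_⟩
  · show s ⟨V.1, _⟩ = (sf a).1 V
    have := hs ⟨V.1, V.2.trans (le_iSup O a)⟩ V.1 le_rfl a V.2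
    rwa [D.res_self] at this
  · refine Subtype.ext (funext fun V => huniq V _ fun A hA a ha => ?_)
    exact (t'.2 V ⟨A, ha.trans (le_iSup O a)⟩ hA).trans (congrFun (congrArg Subtype.val (ht' a)) ⟨A, ha⟩)

/-- The module with the given values on affine opens. -/
def glue : X.Modules := ⟨D.modPresheaf, D.isSheaf_abPresheaf⟩

/-- Evaluation on an affine open. -/
def eqv (U : X.affineOpens) : Γ(D.glue, U.1) ≃ₗ[Γ(X, U.1)] D.obj U where
  toFun a := (show D.sect U.1 from a).1 ⟨U, le_rfl⟩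
  map_add' _ _ := rfl
  map_smul' r a := by
    show ro (le_refl U.1) r • (show D.sect U.1 from a).1 ⟨U, le_rfl⟩ = r • (show D.sect U.1 from a).1 ⟨U, le_rfl⟩
    rw [ro_self]
  invFun s := (show D.sect U.1 from ⟨fun V => D.res V.2 s, fun V W h => D.res_res _ _ _⟩)
  left_inv a := Subtype.ext (funext fun V => (show D.sect U.1 from a).2 ⟨U, le_rfl⟩ V V.2)
  right_inv s := D.res_self _ _

theorem eqv_rs {U V : X.affineOpens} (h : V.1 ≤ U.1) (a : Γ(D.glue, U.1)) :
    D.eqv V (rs D.glue h a) = D.res h (D.eqv U a) :=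
  ((show D.sect U.1 from a).2 ⟨U, le_rfl⟩ ⟨V, h⟩ h).symm

theorem rs_eqv_symm {U V : X.affineOpens} (h : V.1 ≤ U.1) (s : D.obj U) :
    rs D.glue h ((D.eqv U).symm s) = (D.eqv V).symm (D.res h s) :=
  (D.eqv V).injective (by rw [D.eqv_rs, LinearEquiv.apply_symm_apply, LinearEquiv.apply_symm_apply])

instance isQCoh_glue : Coh.IsQCoh D.glue := by
  refine Groth.L16.QcqsPush.isQCoh_of_sections _ fun x => ?_
  obtain ⟨V, hxV, -⟩ := Groth.L22.WedgePair.exists_affine_mem (⊤ : X.Opens) (x := x) trivial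
  refine ⟨V.1, hxV, V.2, fun a => ⟨fun t => ?_, fun t ht => ?_⟩⟩
  · obtain ⟨k, s, hs⟩ := D.loc_surj V a (D.eqv (bo V a) t)
    refine ⟨k, (D.eqv V).symm s, (D.eqv (bo V a)).injective ?_⟩
    refine (D.eqv_rs (bo_le V a) _).trans ?_
    rw [LinearEquiv.apply_symm_apply, hs]
    exact ((D.eqv (bo V a)).map_smul _ _).symm
  · obtain ⟨k, hk⟩ := D.loc_inj V a (D.eqv V t) (by
      rw [← D.eqv_rs]
      exact (congrArg (D.eqv (bo V a)) ht).trans (map_zero _))
    exact ⟨k, (D.eqv V).injective (by rw [map_smul, hk, map_zero])⟩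

end AffData

end Groth.L12.ExtSh
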