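import Groth.Agent.L12.ExtSh.Free
import Groth.Agent.L12.ExtSh.GoodGlue
import Groth.Agent.L18.PBundle.UP

/-!
# Exterior powers of bundles commute with pullback
-/

set_option autoImplicit false
set_option linter.style.haveILetI false
set_option backward.isDefEq.respectTransparency false
set_option backward.isDefEq.respectTransparency.types false

universe u

open CategoryTheory CategoryTheory.Limits AlgebraicGeometry TopologicalSpace Opposite Module
open Groth.L18.Frame (rs ro rs_rs ro_ro rs_smul rs_self ro_self pull pull_rs pull_smul)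
open Groth.L19.ProjBdl (IsBasisOn lc app_lc)
open Groth.L18.PlkAlg (K)
open Groth.L22.WedgePair (ext_affine exists_of_affine)

noncomputable section

namespace Groth.L12.ExtSh

variable {X T : Scheme.{u}} (f : T ⟶ X) {E L : X.Modules} {L' : T.Modules} {i : ℕ}
  (ψ : ∀ V : T.affineOpens, (L'.val.obj (op V.1)) ≃ₗ[Γ(T, V.1)]
    ↥(⋀[Γ(T, V.1)]^i (((Scheme.Modules.pullback f).obj E).val.obj (op V.1))))

/-- The wedge of pulled back sections on an affine open of the source. -/
def wedgeVal (U : X.Opens) (v : Fin i → Γ(E, U)) (V : T.affineOpens) (hV : V.1 ≤ f ⁻¹ᵁ U) : Γ(L', V.1) :=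
  (ψ V).symm (wι ((Scheme.Modules.pullback f).obj E) i V fun j =>
    rs ((Scheme.Modules.pullback f).obj E) hV (pull f E U (v j)))

variable (hψ : ∀ (V W : T.affineOpens) (h : W.1 ≤ V.1)
    (e : Fin i → ((Scheme.Modules.pullback f).obj E).val.obj (op V.1)),
      L'.val.map (homOfLE h).op ((ψ V).symm (exteriorPower.ιMulti _ i e)) =
        (ψ W).symm (exteriorPower.ιMulti _ i (fun j =>
          ((Scheme.Modules.pullback f).obj E).val.map (homOfLE h).op (e j))))

include hψ in
theorem rs_wedgeVal (U : X.Opens) (v : Fin i → Γ(E, U)) (V V' : T.affineOpens) (hV : V.1 ≤ f ⁻¹ᵁ U)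
    (h : V'.1 ≤ V.1) : rs L' h (wedgeVal f ψ U v V hV) = wedgeVal f ψ U v V' (h.trans hV) := by
  refine (hψ V V' h _).trans (congrArg (fun w => (ψ V').symm (wι _ i V' w)) (funext fun j => ?_))
  exact rs_rs _ _ _ _

include hψ in
theorem exists_wedgeSec (U : X.Opens) (v : Fin i → Γ(E, U)) :
    ∃ y : Γ(L', f ⁻¹ᵁ U), ∀ (V : T.affineOpens) (hV : V.1 ≤ f ⁻¹ᵁ U), rs L' hV y = wedgeVal f ψ U v V hV :=
  exists_of_affine L' _ (fun V hV => wedgeVal f ψ U v V hV) fun V V' hV h => rs_wedgeVal f ψ hψ U v V V' hV h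

/-- The wedge of pulled back sections. -/
def wedgeSec (U : X.Opens) (v : Fin i → Γ(E, U)) : Γ(L', f ⁻¹ᵁ U) := (exists_wedgeSec f ψ hψ U v).choose

theorem rs_wedgeSec (U : X.Opens) (v : Fin i → Γ(E, U)) (V : T.affineOpens) (hV : V.1 ≤ f ⁻¹ᵁ U) :
    rs L' hV (wedgeSec f ψ hψ U v) = wedgeVal f ψ U v V hV := (exists_wedgeSec f ψ hψ U v).choose_spec V hV

theorem rs_update {U : X.Opens} (v : Fin i → Γ(E, U)) [DecidableEq (Fin i)] (k : Fin i) (x : Γ(E, U))
    {V : T.Opens} (hV : V ≤ f ⁻¹ᵁ U) :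
    (fun j => rs ((Scheme.Modules.pullback f).obj E) hV (pull f E U (Function.update v k x j))) =
      Function.update (fun j => rs ((Scheme.Modules.pullback f).obj E) hV (pull f E U (v j))) k
        (rs ((Scheme.Modules.pullback f).obj E) hV (pull f E U x)) :=
  funext fun j => Function.apply_update (fun _ y => rs _ hV (pull f E U y)) v k x j

/-- The wedge of pulled back sections, multilinearly. -/
def wedgeAlt (U : X.Opens) :
    (E.val.obj (op U)) [⋀^Fin i]→ₗ[Γ(X, U)] (((Scheme.Modules.pushforward f).obj L').val.obj (op U)) where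
  toFun v := wedgeSec f ψ hψ U v
  map_update_add' := by
    intro _ v k x y
    refine ext_affine L' fun V hV => ?_
    refine (rs_wedgeSec f ψ hψ U _ V hV).trans (Eq.trans ?_ (map_add (L'.presheaf.map (homOfLE hV).op).hom _ _).symm)
    refine Eq.trans ?_ (congrArg₂ (· + ·) (rs_wedgeSec f ψ hψ U _ V hV).symm (rs_wedgeSec f ψ hψ U _ V hV).symm)
    simp only [wedgeVal, rs_update]
    rw [show rs ((Scheme.Modules.pullback f).obj E) hV (pull f E U (x + y)) =
        rs ((Scheme.Modules.pullback f).obj E) hV (pull f E U x) + rs _ hV (pull f E U y) from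
      (congrArg (rs _ hV) (map_add _ x y)).trans (map_add (((Scheme.Modules.pullback f).obj E).presheaf.map (homOfLE hV).op).hom _ _)]
    exact (congrArg (ψ V).symm ((exteriorPower.ιMulti Γ(T, V.1) i
      (M := ((Scheme.Modules.pullback f).obj E).val.obj (op V.1))).map_update_add _ _ _ _)).trans (map_add _ _ _)
  map_update_smul' := by
    intro _ v k a x
    refine ext_affine L' fun V hV => ?_
    refine (rs_wedgeSec f ψ hψ U _ V hV).trans (Eq.trans ?_ (rs_smul L' hV (f.app U a) _).symm)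
    refine Eq.trans ?_ (congrArg (ro hV (f.app U a) • ·) (rs_wedgeSec f ψ hψ U _ V hV).symm)
    simp only [wedgeVal, rs_update]
    rw [pull_smul, rs_smul]
    exact (congrArg (ψ V).symm ((exteriorPower.ιMulti Γ(T, V.1) i
      (M := ((Scheme.Modules.pullback f).obj E).val.obj (op V.1))).map_update_smul _ _ _ _)).trans (map_smul _ _ _)
  map_eq_zero_of_eq' := fun v a b hab hne => by
    refine ext_affine L' fun V hV => ?_
    refine (rs_wedgeSec f ψ hψ U _ V hV).trans (Eq.trans ?_ (map_zero (L'.presheaf.map (homOfLE hV).op).hom).symm)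
    exact (congrArg (ψ V).symm ((exteriorPower.ιMulti Γ(T, V.1) i
      (M := ((Scheme.Modules.pullback f).obj E).val.obj (op V.1))).map_eq_zero_of_eq _
        (congrArg (fun y => rs _ hV (pull f E U y)) hab) hne)).trans (map_zero _)

variable (φ : ∀ U : X.affineOpens,
    (L.val.obj (op U.1)) ≃ₗ[Γ(X, U.1)] ↥(⋀[Γ(X, U.1)]^i (E.val.obj (op U.1))))
  (hφ : ∀ (U V : X.affineOpens) (h : V.1 ≤ U.1) (e : Fin i → E.val.obj (op U.1)),
      L.val.map (homOfLE h).op ((φ U).symm (exteriorPower.ιMulti _ i e)) =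
        (φ V).symm (exteriorPower.ιMulti _ i (fun j => E.val.map (homOfLE h).op (e j))))

/-- The comparison map over an affine open. -/
def wedgeLin (U : X.affineOpens) : Γ(L, U.1) →ₗ[Γ(X, U.1)] Γ((Scheme.Modules.pushforward f).obj L', U.1) :=
  (exteriorPower.alternatingMapLinearEquiv (wedgeAlt f ψ hψ U.1)).comp (φ U).toLinearMap

theorem wedgeLin_ι (U : X.affineOpens) (v : Fin i → Γ(E, U.1)) :
    wedgeLin f ψ hψ φ U ((φ U).symm (wι E i U v)) = wedgeSec f ψ hψ U.1 v := by
  refine (congrArg (exteriorPower.alternatingMapLinearEquiv (wedgeAlt f ψ hψ U.1)) ((φ U).apply_symm_apply _)).trans ?_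
  exact exteriorPower.alternatingMapLinearEquiv_apply_ιMulti _ v

include hφ in
theorem exists_comparison :
    ∃ a : L ⟶ (Scheme.Modules.pushforward f).obj L', ∀ (U : X.affineOpens) (v : Fin i → Γ(E, U.1)),
      a.app U.1 ((φ U).symm (wι E i U v)) = wedgeSec f ψ hψ U.1 v := by
  obtain ⟨a, ha⟩ := Groth.L04.KSh.exists_hom_affine (M := L) (N := (Scheme.Modules.pushforward f).obj L')
    (wedgeLin f ψ hψ φ) fun U V h s => by
      obtain ⟨z, rfl⟩ := (φ U).symm.surjective s
      show wedgeLin f ψ hψ φ V (rs L h ((φ U).symm z)) =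
        rs L' (f.preimage_mono h) (wedgeLin f ψ hψ φ U ((φ U).symm z))
      rw [rs_extPow_symm φ hφ h z]
      induction z using W_induction E i with
      | h0 =>
        rw [map_zero, map_zero, map_zero, map_zero, map_zero]
        exact (map_zero (L'.presheaf.map (homOfLE (f.preimage_mono h)).op).hom).symm
      | hadd p q hp hq =>
        rw [map_add, map_add, map_add, map_add, map_add, hp, hq]
        exact (map_add (L'.presheaf.map (homOfLE (f.preimage_mono h)).op).hom _ _).symm
      | hι r v =>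
        rw [wres_smul, wres_ι, map_smul, map_smul, map_smul, map_smul, wedgeLin_ι, wedgeLin_ι]
        refine Eq.trans ?_ (rs_smul L' (f.preimage_mono h) (f.app U.1 r) _).symm
        refine congrArg₂ (fun (c : Γ(T, f ⁻¹ᵁ V.1)) (y : Γ(L', f ⁻¹ᵁ V.1)) => c • y) (show f.app V.1 (ro h r) = ro (f.preimage_mono h) (f.app U.1 r) from
          congr($(f.naturality (homOfLE h).op) r)) ?_
        refine ext_affine L' fun W hW => ?_
        rw [rs_rs, rs_wedgeSec, rs_wedgeSec]
        refine congrArg (fun w => (ψ W).symm (wι _ i W w)) (funext fun j => ?_)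
        rw [← pull_rs, rs_rs]
  exact ⟨a, fun U v => (ha U _).trans (wedgeLin_ι f ψ hψ φ U v)⟩

/-- A morphism mapping a basis to a basis is bijective on sections. -/
theorem bijective_app_of_bases {M N : X.Modules} (a : M ⟶ N) {U V : X.Opens} {n : ℕ} {b : Fin n → Γ(M, U)}
    (hb : IsBasisOn M U b) (hc : IsBasisOn N U fun k => a.app U (b k)) (h : V ≤ U) :
    Function.Bijective (a.app V) := by
  refine (Function.Bijective.of_comp_iff _ (hb V h)).1 ?_
  rw [show (⇑(a.app V) ∘ lc M b h) = lc N (fun k => a.app U (b k)) h from funext fun c => app_lc a b h c]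
  exact hc V h

omit φ ψ in
/-- Exterior powers of bundles commute with pullback. -/
theorem nonempty_pullback_extPow_iso (hE : FlatMod.IsFinLocFree E) (hL : ExtPow.IsExtPow i E L)
    (hL' : ExtPow.IsExtPow i ((Scheme.Modules.pullback f).obj E) L') :
    Nonempty ((Scheme.Modules.pullback f).obj L ≅ L') := by
  obtain ⟨φ, hφ⟩ := hL
  obtain ⟨ψ, hψ⟩ := hL'
  obtain ⟨a, ha⟩ := exists_comparison f ψ hψ φ hφ
  let α := Groth.L18.PBundle.adjHom a
  have hbij : ∀ V : T.affineOpens, (∃ (U : X.affineOpens) (n : ℕ) (b : Fin n → Γ(E, U.1)),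
      IsBasisOn E U.1 b ∧ V.1 ≤ f ⁻¹ᵁ U.1) → Function.Bijective (α.app V.1) := by
    rintro V ⟨U, n, b, hb, hV⟩
    obtain ⟨ks⟩ := Groth.L18.PlkAlg.exists_enum i n
    have hLb := ((isBasisOn_extPow φ hφ hb ks).pullback f).mono hV
    have hL'b := isBasisOn_extPow ψ hψ (U := V) ((hb.pullback f).mono hV) ks
    refine bijective_app_of_bases α hLb ?_ le_rfl
    convert hL'b using 1
    funext k
    rw [Groth.L19.ProjBdl.app_rs, Groth.L18.PBundle.adjHom_pull, ha U (b ∘ K ks k)]
    exact (rs_wedgeSec f ψ hψ U.1 _ V hV).trans rfl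
  obtain ⟨e, -⟩ := exists_iso_of_good (M := (Scheme.Modules.pullback f).obj L) (N := L')
    (G := fun V => ∃ (U : X.affineOpens) (n : ℕ) (b : Fin n → Γ(E, U.1)), IsBasisOn E U.1 b ∧ V.1 ≤ f ⁻¹ᵁ U.1)
    (fun t W ht => by
      obtain ⟨U, n, b, hU, hxU, -, hb⟩ := Groth.L19.ProjBdl.exists_basisOn hE (f t) ⊤ trivial
      obtain ⟨V, htV, hVW⟩ := Groth.L22.WedgePair.exists_affine_mem (W ⊓ f ⁻¹ᵁ U) (x := t) ⟨ht, hxU⟩
      exact ⟨V, ⟨⟨U, hU⟩, n, b, hb, hVW.trans inf_le_right⟩, htV, hVW.trans inf_le_left⟩)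
    (fun V hV => LinearEquiv.ofBijective
      { toFun := α.app V.1
        map_add' := fun s t => map_add _ s t
        map_smul' := fun r s => α.app_smul r s } (hbij V hV))
    fun V W _ _ h s => Groth.L19.ProjBdl.app_rs α h s
  exact ⟨e⟩

end Groth.L12.ExtSh
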