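import Groth.Agent.L12.ExtSh.GoodGlue
import Groth.Agent.L12.ExtSh.Unique
import Groth.Agent.L04.KSh.Twist
import Groth.Prelude.Def_ExtPow2

/-!
# Exterior powers of a twist by an invertible module
-/

set_option autoImplicit false
set_option linter.style.haveILetI false
set_option backward.isDefEq.respectTransparency false
set_option backward.isDefEq.respectTransparency.types false

universe u

open CategoryTheory CategoryTheory.Limits AlgebraicGeometry TopologicalSpace Opposite exteriorPower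
open Groth.L18.Frame (rs ro rs_rs ro_ro rs_smul rs_self ro_self IsFrame)
open Groth.L04.KSh (twistₗ bijective_tmul isFrame_tprod exteriorPower_map_bijective)

noncomputable section

namespace Groth.L12.ExtSh

variable {X : Scheme.{u}} {E L M N : X.Modules} {k : ℕ}

theorem tprod_smul (L : X.Modules) (U : X.Opens) (a : Γ(X, U)) (e : Γ(L, U)) :
    ∀ q : ℕ, KoszTw.tprod L q U (fun _ => (a • e : Γ(L, U))) =
      (a ^ q • (show Γ(CohB1.tensorPow L q, U) from KoszTw.tprod L q U fun _ => e) : Γ(CohB1.tensorPow L q, U))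
  | 0 => by
    rw [pow_zero, one_smul]
    rfl
  | q + 1 => by
    show SecTwist.tmul (CohB1.tensorPow L q) L U (KoszTw.tprod L q U fun _ => (a • e : Γ(L, U))) (a • e : Γ(L, U)) = _
    rw [tprod_smul L U a e q]
    refine (Groth.L12.FinCov.tmul_smul_right _ L U a _ e).trans ?_
    refine (congrArg (a • ·) (Groth.L12.FinCov.tmul_smul_left _ L U (a ^ q) _ e)).trans ?_
    rw [smul_smul, ← pow_succ']
    rfl

theorem map_twist_ι (U : X.affineOpens) {e : Γ(L, U.1)} (he : IsFrame L U.1 e) (f : Fin k → Γ(E, U.1)) :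
    exteriorPower.map k (twistₗ E he).toLinearMap (exteriorPower.ιMulti Γ(X, U.1) k (M := E.val.obj (op U.1)) f) =
      exteriorPower.ιMulti Γ(X, U.1) k (M := (CohB1.tensorMod E L).val.obj (op U.1))
        fun j => SecTwist.tmul E L U.1 (f j) e :=
  exteriorPower.map_apply_ιMulti (twistₗ E he).toLinearMap f

section Iso

variable (φM : ∀ U : X.affineOpens,
    (M.val.obj (op U.1)) ≃ₗ[Γ(X, U.1)] ↥(⋀[Γ(X, U.1)]^k ((CohB1.tensorMod E L).val.obj (op U.1))))
  (φN : ∀ U : X.affineOpens,
    (N.val.obj (op U.1)) ≃ₗ[Γ(X, U.1)] ↥(⋀[Γ(X, U.1)]^k (E.val.obj (op U.1))))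
  (hM : ∀ (U V : X.affineOpens) (h : V.1 ≤ U.1) (e : Fin k → (CohB1.tensorMod E L).val.obj (op U.1)),
      M.val.map (homOfLE h).op ((φM U).symm (exteriorPower.ιMulti _ k e)) =
        (φM V).symm (exteriorPower.ιMulti _ k (fun j => (CohB1.tensorMod E L).val.map (homOfLE h).op (e j))))
  (hN : ∀ (U V : X.affineOpens) (h : V.1 ≤ U.1) (e : Fin k → E.val.obj (op U.1)),
      N.val.map (homOfLE h).op ((φN U).symm (exteriorPower.ιMulti _ k e)) =
        (φN V).symm (exteriorPower.ιMulti _ k (fun j => E.val.map (homOfLE h).op (e j))))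

/-- The comparison along a frame. -/
def frameEquiv (U : X.affineOpens) {e : Γ(L, U.1)} (he : IsFrame L U.1 e) :
    Γ(M, U.1) ≃ₗ[Γ(X, U.1)] Γ(CohB1.tensorMod N (CohB1.tensorPow L k), U.1) :=
  ((φM U).trans ((LinearEquiv.ofBijective (exteriorPower.map k (twistₗ E he).toLinearMap)
    (exteriorPower_map_bijective k (twistₗ E he))).symm.trans (φN U).symm)).trans
      (twistₗ N (isFrame_tprod he k))

theorem frameEquiv_ι (U : X.affineOpens) {e : Γ(L, U.1)} (he : IsFrame L U.1 e) (f : Fin k → Γ(E, U.1)) :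
    frameEquiv φM φN U he ((φM U).symm (exteriorPower.ιMulti Γ(X, U.1) k fun j => SecTwist.tmul E L U.1 (f j) e)) =
      SecTwist.tmul N (CohB1.tensorPow L k) U.1 ((φN U).symm (exteriorPower.ιMulti Γ(X, U.1) k f))
        (KoszTw.tprod L k U.1 fun _ => e) := by
  show twistₗ N (isFrame_tprod he k) ((φN U).symm ((LinearEquiv.ofBijective (exteriorPower.map k (twistₗ E he).toLinearMap)
    (exteriorPower_map_bijective k (twistₗ E he))).symm (φM U ((φM U).symm _)))) = _
  rw [LinearEquiv.apply_symm_apply]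
  refine congrArg (fun z => twistₗ N (isFrame_tprod he k) ((φN U).symm z)) ?_
  refine (LinearEquiv.symm_apply_eq _).2 ?_
  exact (map_twist_ι U he f).symm

include hM hN in
theorem frameEquiv_rs {U V : X.affineOpens} {e : Γ(L, U.1)} (he : IsFrame L U.1 e) {e' : Γ(L, V.1)}
    (he' : IsFrame L V.1 e') (h : V.1 ≤ U.1) (s : Γ(M, U.1)) :
    frameEquiv φM φN V he' (rs M h s) =
      rs (CohB1.tensorMod N (CohB1.tensorPow L k)) h (frameEquiv φM φN U he s) := by
  obtain ⟨a, ha⟩ := he'.exists_coeff (le_refl V.1) (rs L h e)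
  rw [rs_self] at ha
  obtain ⟨z, rfl⟩ := (φM U).symm.surjective s
  obtain ⟨w, rfl⟩ := (exteriorPower_map_bijective k (twistₗ E he)).2 z
  induction w using W_induction E k with
  | h0 =>
    have h0 : rs M h ((φM U).symm (exteriorPower.map k (twistₗ E he).toLinearMap 0)) = 0 := by
      rw [map_zero, map_zero]
      exact map_zero (M.presheaf.map (homOfLE h).op).hom
    rw [h0, map_zero, map_zero, map_zero, map_zero]
    exact (map_zero ((CohB1.tensorMod N (CohB1.tensorPow L k)).presheaf.map (homOfLE h).op).hom).symm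
  | hadd x y hx hy =>
    rw [map_add, map_add, map_add]
    refine (congrArg (frameEquiv φM φN V he') (map_add (M.presheaf.map (homOfLE h).op).hom _ _)).trans ?_
    refine (map_add (frameEquiv φM φN V he') _ _).trans ?_
    refine (congrArg₂ (· + ·) hx hy).trans ?_
    exact (map_add ((CohB1.tensorMod N (CohB1.tensorPow L k)).presheaf.map (homOfLE h).op).hom _ _).symm
  | hι r f =>
    rw [map_smul, map_smul, map_smul]
    erw [map_twist_ι U he f]
    refine (congrArg (frameEquiv φM φN V he') (rs_smul M h r _)).trans ?_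
    refine ((frameEquiv φM φN V he').map_smul _ _).trans ?_
    refine Eq.trans ?_ (rs_smul _ h r _).symm
    refine congrArg (ro h r • ·) ?_
    refine (congrArg (frameEquiv φM φN V he') (hM U V h _)).trans ?_
    rw [frameEquiv_ι]
    have hres : (fun j => (CohB1.tensorMod E L).val.map (homOfLE h).op (SecTwist.tmul E L U.1 (f j) e)) =
        fun j => (a • (show Γ(CohB1.tensorMod E L, V.1) from SecTwist.tmul E L V.1 (rs E h (f j)) e') :
          Γ(CohB1.tensorMod E L, V.1)) := funext fun j => by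
      rw [SecTwist.map_tmul]
      show SecTwist.tmul E L V.1 (rs E h (f j)) (rs L h e) = _
      rw [← ha]
      exact Groth.L12.FinCov.tmul_smul_right E L V.1 a _ e'
    rw [hres]
    refine Eq.trans (b := (a ^ k • (show Γ(CohB1.tensorMod N (CohB1.tensorPow L k), V.1) from
        SecTwist.tmul N (CohB1.tensorPow L k) V.1 ((φN V).symm (exteriorPower.ιMulti Γ(X, V.1) k fun j => rs E h (f j)))
          (KoszTw.tprod L k V.1 fun _ => e')) : Γ(CohB1.tensorMod N (CohB1.tensorPow L k), V.1))) ?_ ?_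
    · rw [← frameEquiv_ι φM φN V he', ← map_smul]
      refine congrArg (frameEquiv φM φN V he') ((congrArg (φM V).symm ?_).trans ((φM V).symm.map_smul _ _))
      refine ((exteriorPower.ιMulti Γ(X, V.1) k).map_smul_univ (fun _ => a) _).trans ?_
      rw [Finset.prod_const, Finset.card_univ, Fintype.card_fin]
    · show _ = (CohB1.tensorMod N (CohB1.tensorPow L k)).val.map (homOfLE h).op (SecTwist.tmul N _ U.1 _ _)
      rw [SecTwist.map_tmul, KoszTw.map_tprod, hN U V h f]
      refine Eq.trans ?_ (congrArg (SecTwist.tmul N (CohB1.tensorPow L k) V.1 _)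
        (congrArg (KoszTw.tprod L k V.1) (funext fun _ => ha)))
      exact ((congrArg (SecTwist.tmul N (CohB1.tensorPow L k) V.1 _) (tprod_smul L V.1 a e' k)).trans
          (Groth.L12.FinCov.tmul_smul_right N _ V.1 (a ^ k) _ _)).symm

end Iso

/-- `Λ^k (E ⊗ L) ≅ Λ^k E ⊗ L^k`. -/
theorem nonempty_extPow_tensor_iso (hL : PicF.IsInvertible L)
    (hM : ExtPow.IsExtPow k (CohB1.tensorMod E L) M) (hN : ExtPow.IsExtPow k E N) :
    Nonempty (M ≅ CohB1.tensorMod N (CohB1.tensorPow L k)) := by
  obtain ⟨φM, hφM⟩ := hM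
  obtain ⟨φN, hφN⟩ := hN
  obtain ⟨e, -⟩ := exists_iso_of_good (M := M) (N := CohB1.tensorMod N (CohB1.tensorPow L k))
    (G := fun U => ∃ e : Γ(L, U.1), IsFrame L U.1 e)
    (fun x W hx => by
      obtain ⟨W', e, -, hxW', he⟩ := Groth.L18.GenLoc.exists_affine_frame hL x
      obtain ⟨V, hxV, hVW⟩ := Groth.L22.WedgePair.exists_affine_mem (W ⊓ W') (x := x) ⟨hx, hxW'⟩
      exact ⟨V, ⟨rs L (hVW.trans inf_le_right) e, he.mono _⟩, hxV, hVW.trans inf_le_left⟩)
    (fun U hU => frameEquiv φM φN U hU.choose_spec)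
    fun U V hU hV h s => frameEquiv_rs φM φN hφM hφN hU.choose_spec hV.choose_spec h s
  exact ⟨e⟩

end Groth.L12.ExtSh
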