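import Groth.Agent.L12.ExtSh.Unique
import Groth.Agent.L18.TildeFunctor
import Mathlib.AlgebraicGeometry.Modules.Tilde
import Mathlib.AlgebraicGeometry.AffineScheme

/-!
# Exterior powers on affine schemes
-/

set_option autoImplicit false
set_option linter.style.haveILetI false
set_option backward.isDefEq.respectTransparency false
set_option backward.isDefEq.respectTransparency.types false

universe u

open CategoryTheory CategoryTheory.Limits AlgebraicGeometry TopologicalSpace Opposite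

noncomputable section

namespace Groth.L12.ExtSh

variable {R : CommRingCat.{u}}

/-- A linear bijection from a module onto global sections transports to exterior powers. -/
theorem exists_linearEquiv_top (N : (Spec R).Modules) [Coh.IsQCoh N] {M : Type u} [AddCommGroup M] [Module R M]
    (j : M →ₗ[R] Γ(N, (⊤ : (Spec R).Opens))) (hj : Function.Bijective j) (n : ℕ) :
    Nonempty (↥(⋀[R]^n M) ≃ₗ[R] Γ(wedgeMod N n, (⊤ : (Spec R).Opens))) := by
  have hA : Function.Bijective (algebraMap R Γ(Spec R, (⊤ : (Spec R).Opens))) := by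
    rw [AlgebraicGeometry.IsAffineOpen.algebraMap_Spec_obj]
    have h1 := ConcreteCategory.bijective_of_isIso (Scheme.ΓSpecIso R).inv
    simpa using h1
  haveI : IsLocalization (⊥ : Submonoid R) Γ(Spec R, (⊤ : (Spec R).Opens)) := by
    refine { map_units := fun x => ?_, surj := fun z => ?_, exists_of_eq := fun {x y} h => ⟨1, by rw [hA.1 h]⟩ }
    · rw [(Submonoid.mem_bot.1 x.2 : (x : R) = 1), map_one]
      exact isUnit_one
    · obtain ⟨a, rfl⟩ := hA.2 z
      exact ⟨(a, 1), by simp⟩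
  haveI : IsLocalizedModule (⊥ : Submonoid R) j := by
    refine (isLocalizedModule_iff _ _).2 ⟨fun x => ?_, fun z => ?_, fun {x y} h => ⟨1, by rw [hj.1 h]⟩⟩
    · rw [(Submonoid.mem_bot.1 x.2 : (x : R) = 1), map_one]
      exact isUnit_one
    · obtain ⟨a, rfl⟩ := hj.2 z
      exact ⟨(a, 1), by simp⟩
  obtain ⟨Ψ, -, hsurj, hker⟩ := Groth.L15.Ref.exterior_localized (⊥ : Submonoid R)
    (B := Γ(Spec R, (⊤ : (Spec R).Opens))) j n
  have hΨ : Function.Bijective Ψ := by
    refine ⟨(injective_iff_map_eq_zero Ψ).2 fun z hz => ?_, fun y => ?_⟩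
    · obtain ⟨s, hs⟩ := hker z hz
      rwa [(Submonoid.mem_bot.1 s.2 : (s : R) = 1), one_smul] at hs
    · obtain ⟨x, s, hx⟩ := hsurj y
      rw [(Submonoid.mem_bot.1 s.2 : (s : R) = 1), map_one, one_smul] at hx
      exact ⟨x, hx.symm⟩
  let ε : Γ(wedgeMod N n, (⊤ : (Spec R).Opens)) ≃ₗ[Γ(Spec R, (⊤ : (Spec R).Opens))]
      ↥(⋀[Γ(Spec R, (⊤ : (Spec R).Opens))]^n Γ(N, (⊤ : (Spec R).Opens))) :=
    wedgeEquiv N n ⟨⊤, isAffineOpen_top _⟩
  exact ⟨(LinearEquiv.ofBijective Ψ hΨ).trans (ε.symm.restrictScalars R)⟩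

/-- The exterior power of `M~` is the module of the exterior power of `M`. -/
theorem isExtPow_tilde (M : ModuleCat.{u} R) (n : ℕ) :
    ExtPow.IsExtPow n (tilde M) (tilde (ModuleCat.of R ↥(⋀[R]^n M))) := by
  haveI : Coh.IsQCoh (tilde M) := show (tilde M).IsQuasicoherent by infer_instance
  let j : M →ₗ[R] Γ(tilde M, (⊤ : (Spec R).Opens)) := (tilde.toOpen M ⊤).hom
  obtain ⟨g⟩ := exists_linearEquiv_top (tilde M) j (ConcreteCategory.bijective_of_isIso (tilde.toOpen M ⊤)) n
  let g' : ModuleCat.of R ↥(⋀[R]^n M) ≅ moduleSpecΓFunctor.obj (wedgeMod (tilde M) n) :=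
    LinearEquiv.toModuleIso (X₂ := Γ(wedgeMod (tilde M) n, (⊤ : (Spec R).Opens))) g
  haveI : (wedgeMod (tilde M) n).IsQuasicoherent := (inferInstance : Coh.IsQCoh (wedgeMod (tilde M) n))
  exact isExtPow_of_iso ((Groth.L18.TildeF.counitIso _).symm ≪≫ (tilde.functor R).mapIso g'.symm)
    (isExtPow_wedgeMod (tilde M) n)

end Groth.L12.ExtSh
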